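import Groth.Agent.DSites.Desc.Bicomplex

/-!
# Exact augmented bicomplexes compute the cohomology of their first column
-/

universe u

open CategoryTheory CategoryTheory.Limits
open Groth.Agent.CohDesc82 (Bi Supp Supp')

set_option autoImplicit false

namespace Groth.Agent.DSites.Desc

variable (B : Bi.{u})

/-- The bicomplex without its column `0`. -/
abbrev tailBi : Bi.{u} where
  A p n := B.A (p + 1) n
  h p n := B.h (p + 1) n
  v p n := B.v (p + 1) n
  hh p n x := B.hh (p + 1) n x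
  vv p n x := B.vv (p + 1) n x
  hv p n x := B.hv (p + 1) n x

/-- Extension of a family by zero on the column `0`, with signs. -/
noncomputable def ext0 : (∀ i, (tailBi B).F i) →+ ∀ i, B.F i where
  toFun z i := match i with
    | (0, _) => 0
    | (p + 1, n) => (-1 : ℤ) ^ n • z (p, n)
  map_zero' := funext fun ⟨p, n⟩ => by rcases p with _ | p <;> simp
  map_add' x y := funext fun ⟨p, n⟩ => by rcases p with _ | p <;> simp

lemma ext0_zero (z : ∀ i, (tailBi B).F i) (n : ℕ) : ext0 B z (0, n) = 0 := rfl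

lemma ext0_succ (z : ∀ i, (tailBi B).F i) (p n : ℕ) : ext0 B z (p + 1, n) = (-1 : ℤ) ^ n • z (p, n) := rfl

lemma D_ext0 (z : ∀ i, (tailBi B).F i) : B.D (ext0 B z) = ext0 B ((tailBi B).D z) := by
  funext ⟨p, n⟩
  rcases p with _ | _ | p <;> rcases n with _ | n <;>
    simp [Bi.D_apply, Bi.hP, Bi.vP, ext0_zero, ext0_succ, pow_succ, smul_smul]
  rw [mul_comm]

/-- The part away from the column `0`, with signs. -/
def res0 (y : ∀ i, B.F i) : ∀ i, (tailBi B).F i := fun i => (-1 : ℤ) ^ i.2 • y (i.1 + 1, i.2)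

/-- The map from the column `0`. -/
noncomputable def augHom (n : ℕ) : B.A 0 n →+ ∀ i, (tailBi B).F i where
  toFun x := (tailBi B).single (0, n) (B.h 0 n x)
  map_zero' := funext fun i => by
    by_cases hi : i = (0, n)
    · subst hi; simp [Bi.single_self]
    · simp [Bi.single_ne _ _ hi]
  map_add' x y := funext fun i => by
    by_cases hi : i = (0, n)
    · subst hi; simp [Bi.single_self]
    · simp [Bi.single_ne _ _ hi]

lemma augHom_self (n : ℕ) (x : B.A 0 n) : augHom B n x (0, n) = B.h 0 n x := (tailBi B).single_self _ _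

lemma augHom_ne (n : ℕ) (x : B.A 0 n) {i : ℕ × ℕ} (hi : i ≠ (0, n)) : augHom B n x i = 0 :=
  (tailBi B).single_ne _ hi

lemma augHom_mem (n : ℕ) (x : B.A 0 n) : augHom B n x ∈ sub (tailBi B) ⊤ (n : ℤ) := fun i hi =>
  augHom_ne B n x fun e => by subst e; simp [Bi.deg] at hi

lemma D_augHom (n : ℕ) (x : B.A 0 n) : (tailBi B).D (augHom B n x) = augHom B (n + 1) (B.v 0 n x) := by
  funext ⟨p, m⟩
  rw [Bi.D_apply]
  rcases p with _ | p
  · rcases m with _ | m
    · simp [Bi.hP, Bi.vP, augHom_ne B (n + 1) _ (show ((0, 0) : ℕ × ℕ) ≠ (0, n + 1) by simp)]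
    · by_cases hm : m = n
      · subst hm
        simp [Bi.hP, Bi.vP, augHom_self, B.hv]
      · simp [Bi.hP, Bi.vP, augHom_ne B _ _ (show ((0, m) : ℕ × ℕ) ≠ (0, n) by simp [hm]),
          augHom_ne B (n + 1) _ (show ((0, m + 1) : ℕ × ℕ) ≠ (0, n + 1) by simp [hm])]
  · rw [augHom_ne B (n + 1) _ (by simp)]
    have h2 : (tailBi B).vP (augHom B n x) (p + 1, m) = 0 := by
      rcases m with _ | m
      · rfl
      · simp [Bi.vP, augHom_ne B n x (show ((p + 1, m) : ℕ × ℕ) ≠ (0, n) by simp)]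
    rw [h2, smul_zero, add_zero]
    by_cases hp : p = 0 ∧ m = n
    · obtain ⟨rfl, rfl⟩ := hp
      simp [Bi.hP, augHom_self, B.hh]
    · simp [Bi.hP, augHom_ne B n x (show ((p, m) : ℕ × ℕ) ≠ (0, n) by simpa using hp)]

/-- An exact bicomplex computes the cohomology of its column `0` by the others. -/
theorem nonempty_homology_tail_iso (hB : B.Exact) (n : ℕ) :
    Nonempty ((colCx B 0).homology n ≅ (stepCx (tailBi B) ⊤).homology (n : ℤ)) := by
  refine homology_iso_of_hom (colCx B 0) (stepCx (tailBi B) ⊤) ((ComplexShape.up ℕ).prev n) n (n + 1) rfl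
    (by simp) ((n : ℤ) - 1) (n : ℤ) ((n : ℤ) + 1) (by simp) (by simp)
    ((augHom B n).codRestrict _ (augHom_mem B n)) (fun x hx => ?_) (fun x hx => ?_) (fun z hz => ?_)
  · refine Subtype.ext ((stepCx_d (tailBi B) ⊤ _ _ rfl _).trans ?_)
    exact (D_augHom B n x).trans ((congrArg (augHom B (n + 1))
      ((colCx_d B 0 n x).symm.trans hx)).trans (map_zero _))
  · let x' : B.A 0 n := x
    have hvx : B.v 0 n x' = 0 := (colCx_d B 0 n x).symm.trans hx
    constructor
    · rintro ⟨y, hy⟩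
      rcases n with _ | n
      · refine ⟨0, ?_⟩
        rw [map_zero, ← hy, (colCx B 0).shape _ _ (by simp)]
        exact (map_zero _).symm
      · revert y
        rw [show (ComplexShape.up ℕ).prev (n + 1) = n by simp]
        intro y hy
        refine ⟨⟨augHom B n y, fun i hi => augHom_ne B n y fun e => by subst e; simp [Bi.deg] at hi⟩,
          Subtype.ext ((stepCx_d (tailBi B) ⊤ _ _ (by simp) _).trans ?_)⟩
        exact (D_augHom B n y).trans (congrArg (augHom B (n + 1)) ((colCx_d B 0 n y).symm.trans hy))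
    · rintro ⟨y', hy'⟩
      have hy : (tailBi B).D y'.1 = augHom B n x' :=
        (stepCx_d (tailBi B) ⊤ _ _ (by simp) y').symm.trans (congrArg Subtype.val hy')
      let c : ∀ i, B.F i := B.single (0, n) ((-1 : ℤ) ^ n • x') - ext0 B y'.1
      have hc : B.D c = 0 := by
        rw [map_sub, D_ext0, hy, sub_eq_zero]
        funext ⟨p, m⟩
        rw [Bi.D_apply]
        rcases p with _ | _ | p
        · rw [ext0_zero]
          rcases m with _ | m
          · simp [Bi.hP, Bi.vP]
          · by_cases hm : m = n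
            · subst hm; simp [Bi.hP, Bi.vP, Bi.single_self, hvx]
            · simp [Bi.hP, Bi.vP, B.single_ne _ (show ((0, m) : ℕ × ℕ) ≠ (0, n) by simp [hm])]
        · have h2 : B.vP (B.single (0, n) ((-1 : ℤ) ^ n • x')) (1, m) = 0 := by
            rcases m with _ | m
            · rfl
            · simp [Bi.vP, B.single_ne _ (show ((1, m) : ℕ × ℕ) ≠ (0, n) by simp)]
          rw [h2, smul_zero, add_zero, ext0_succ]
          by_cases hm : m = n
          · subst hm; simp [Bi.hP, Bi.single_self, augHom_self]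
          · simp [Bi.hP, B.single_ne _ (show ((0, m) : ℕ × ℕ) ≠ (0, n) by simp [hm]),
              augHom_ne B n _ (show ((0, m) : ℕ × ℕ) ≠ (0, n) by simp [hm])]
        · rw [ext0_succ, augHom_ne B n _ (show ((p + 1, m) : ℕ × ℕ) ≠ (0, n) by simp), smul_zero]
          have h2 : B.vP (B.single (0, n) ((-1 : ℤ) ^ n • x')) (p + 1 + 1, m) = 0 := by
            rcases m with _ | m
            · rfl
            · simp [Bi.vP, B.single_ne _ (show ((p + 1 + 1, m) : ℕ × ℕ) ≠ (0, n) by simp)]
          rw [h2, smul_zero, add_zero]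
          simp [Bi.hP, B.single_ne _ (show ((p + 1, m) : ℕ × ℕ) ≠ (0, n) by simp)]
      have hsupp : Supp Bi.deg n c := fun i hi => by
        rcases i with ⟨p, m⟩
        have h1 : B.single (0, n) ((-1 : ℤ) ^ n • x') (p, m) = 0 :=
          B.single_ne _ fun e => hi (by rw [e]; simp [Bi.deg])
        have h2 : ext0 B y'.1 (p, m) = 0 := by
          rcases p with _ | p
          · rfl
          · rw [ext0_succ, y'.2 (p, m) (Or.inl (by simp [Bi.deg] at hi ⊢; omega)), smul_zero]
        simp [c, h1, h2]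
      obtain ⟨w, hw, hwc⟩ := hB n c hsupp hc
      have h0 : B.vP w (0, n) = (-1 : ℤ) ^ n • x' := by
        have := congrFun hwc (0, n)
        simpa [Bi.D_apply, Bi.hP, c, Bi.single_self, ext0_zero] using this
      rcases n with _ | n
      · refine ⟨0, ?_⟩
        rw [map_zero]
        exact (by simpa [Bi.vP] using h0 : (0 : B.F (0, 0)) = x')
      · rw [show (ComplexShape.up ℕ).prev (n + 1) = n by simp]
        refine ⟨(-1 : ℤ) ^ (n + 1) • w (0, n), (colCx_d B 0 n _).trans ?_⟩
        refine (map_zsmul (B.v 0 n) _ _).trans ?_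
        rw [show B.v 0 n (w (0, n)) = (-1 : ℤ) ^ (n + 1) • x' from h0, smul_smul, ← pow_add,
          Even.neg_one_pow ⟨n + 1, rfl⟩, one_smul]
  · have hzD : (tailBi B).D z.1 = 0 :=
      (stepCx_d (tailBi B) ⊤ _ _ rfl z).symm.trans (congrArg Subtype.val hz)
    have hsupp : Supp Bi.deg (n + 1) (ext0 B z.1) := fun i hi => by
      rcases i with ⟨_ | p, m⟩
      · rfl
      · rw [ext0_succ, z.2 (p, m) (Or.inl (by simp [Bi.deg] at hi ⊢; omega)), smul_zero]
    obtain ⟨w, hw, hwz⟩ := hB (n + 1) _ hsupp (by rw [D_ext0, hzD, map_zero])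
    let x : B.A 0 n := (-1 : ℤ) ^ n • w (0, n)
    have hx : B.v 0 n x = 0 := by
      have := congrFun hwz (0, n + 1)
      simp only [Bi.D_apply, Bi.hP, Bi.vP, pow_zero, one_smul, zero_add, ext0_zero] at this
      simp only [x, map_zsmul, this, smul_zero]
    have hw' : Supp Bi.deg n w := fun i hi => hw i (by omega)
    refine ⟨x, (colCx_d B 0 n x).trans hx, ⟨res0 B w, fun i hi => ?_⟩, ?_⟩
    · rw [res0, hw' (i.1 + 1, i.2) (by simp [Bi.deg] at hi ⊢; omega), smul_zero]
    refine Subtype.ext ((stepCx_d (tailBi B) ⊤ _ _ (by simp) _).trans ?_)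
    show (tailBi B).D (res0 B w) = z.1 - augHom B n x
    funext ⟨p, m⟩
    have hwm := congrFun hwz (p + 1, m)
    rw [ext0_succ] at hwm
    have hz' : z.1 (p, m) = (-1 : ℤ) ^ m • B.D w (p + 1, m) := by
      rw [hwm, smul_smul, ← pow_add, Even.neg_one_pow ⟨m, rfl⟩, one_smul]
    rw [Pi.sub_apply, hz', Bi.D_apply, Bi.D_apply]
    rcases p with _ | p
    · by_cases hm : m = n
      · subst hm
        rw [augHom_self]
        rcases m with _ | m <;> simp [Bi.hP, Bi.vP, res0, x, pow_succ, smul_smul]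
      · rw [augHom_ne B n x (show ((0, m) : ℕ × ℕ) ≠ (0, n) by simp [hm]), sub_zero]
        have h0 : w (0, m) = 0 := hw' (0, m) (by simp [Bi.deg, hm])
        rcases m with _ | m <;> simp [Bi.hP, Bi.vP, res0, h0, pow_succ, smul_smul]
    · rw [augHom_ne B n x (show ((p + 1, m) : ℕ × ℕ) ≠ (0, n) by simp), sub_zero]
      rcases m with _ | m <;> simp [Bi.hP, Bi.vP, res0, pow_succ, smul_smul]
      rw [mul_comm]

lemma isZero_homology_stepCx (C : Bi.{u}) (n : ℤ) (hn : n < 0) : IsZero ((stepCx C ⊤).homology n) := by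
  refine ((stepCx C ⊤).exactAt_iff_isZero_homology n).1 (ShortComplex.exact_of_isZero_X₂ _ ?_)
  have : Subsingleton (sub C ⊤ n) := ⟨fun a b => Subtype.ext (funext fun i => by
    have hi : (Bi.deg i : ℤ) ≠ n ∨ ¬ ((1 - i.1 : ℤ) : EInt) ≤ ⊤ := Or.inl (by simp [Bi.deg]; omega)
    rw [a.2 i hi, b.2 i hi])⟩
  exact AddCommGrpCat.isZero_of_subsingleton (AddCommGrpCat.of (sub C ⊤ n))

/-- The spectral sequence of an exact augmented bicomplex. -/
theorem exists_augmented_spectralSequence (hB : B.Exact) (H : ℤ → AddCommGrpCat.{u})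
    (eH : ∀ n : ℕ, Nonempty ((colCx B 0).homology n ≅ H n)) (hH : ∀ n : ℤ, n < 0 → IsZero (H n))
    (E1 : ℤ → ℤ → AddCommGrpCat.{u}) (h1 : ∀ p q : ℕ, Nonempty ((colCx B (p + 1)).homology q ≅ E1 p q))
    (h0 : ∀ p q : ℤ, (p < 0 ∨ q < 0) → IsZero (E1 p q)) :
    ∃ (E : CohomologicalSpectralSequence AddCommGrpCat.{u} 1) (a : SpSeq.Abutment E H),
      (∀ n, a.IsFinite n) ∧ SpSeq.IsBounded E ∧
      ∀ p q : ℤ, Nonempty ((E.page 1 le_rfl).X (p, q) ≅ E1 p q) := by
  have hiso : ∀ n, Nonempty ((stepCx (tailBi B) ⊤).homology n ≅ H n) := fun n => by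
    rcases Int.lt_or_le n 0 with hn | hn
    · exact ⟨(isZero_homology_stepCx _ n hn).iso (hH n hn)⟩
    · obtain ⟨k, rfl⟩ : ∃ k : ℕ, n = k := ⟨n.toNat, (Int.toNat_of_nonneg hn).symm⟩
      exact ⟨(nonempty_homology_tail_iso B hB k).some.symm ≪≫ (eH k).some⟩
  exact exists_bicomplex_spectralSequence (tailBi B) H (fun n => (hiso n).some) E1 h1 h0

end Groth.Agent.DSites.Desc
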