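import Groth.Agent.DSites.Desc.FilteredCx
import Groth.Agent.CohDesc82.Tot
import Mathlib.Algebra.Homology.ShortComplex.Ab
import Mathlib.Algebra.Category.Grp.Zero
import Mathlib.GroupTheory.QuotientGroup.Basic

/-!
# The spectral sequence of a first quadrant bicomplex, filtered by its first index
-/

universe u

open CategoryTheory CategoryTheory.Limits
open Groth.Agent.CohDesc82 (Bi Supp Supp')

set_option autoImplicit false

namespace Groth.Agent.DSites.Desc

/-- A map on middle terms inducing an isomorphism on homology. -/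
theorem homologyIso_of_hom (S S' : ShortComplex AddCommGrpCat.{u}) (f : S.X₂ →+ S'.X₂)
    (h1 : ∀ x, S.g x = 0 → S'.g (f x) = 0)
    (h2 : ∀ x, S.g x = 0 → ((∃ y, S.f y = x) ↔ ∃ y', S'.f y' = f x))
    (h3 : ∀ z, S'.g z = 0 → ∃ x, S.g x = 0 ∧ ∃ y', S'.f y' = z - f x) :
    Nonempty (S.homology ≅ S'.homology) := by
  let φ : S.g.hom.ker →+ S'.g.hom.ker ⧸ S'.abToCycles.range :=
    (QuotientAddGroup.mk' _).comp ((f.comp S.g.hom.ker.subtype).codRestrict _ fun x => h1 x.1 x.2)
  have hker : ∀ x, φ x = 0 ↔ x ∈ S.abToCycles.range := fun x => by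
    refine (QuotientAddGroup.eq_zero_iff _).trans ⟨fun ⟨y', hy'⟩ => ?_, fun ⟨y, hy⟩ => ?_⟩
    · obtain ⟨y, hy⟩ := (h2 x.1 x.2).2 ⟨y', congrArg Subtype.val hy'⟩
      exact ⟨y, Subtype.ext hy⟩
    · obtain ⟨y', hy'⟩ := (h2 x.1 x.2).1 ⟨y, congrArg Subtype.val hy⟩
      exact ⟨y', Subtype.ext hy'⟩
  let ψ := QuotientAddGroup.lift S.abToCycles.range φ fun x hx => (hker x).2 hx
  have hb : Function.Bijective ψ := by
    refine ⟨(injective_iff_map_eq_zero ψ).2 fun x hx => ?_, fun z => ?_⟩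
    · obtain ⟨x, rfl⟩ := QuotientAddGroup.mk_surjective x
      exact (QuotientAddGroup.eq_zero_iff _).2 ((hker x).1 hx)
    · obtain ⟨z, rfl⟩ := QuotientAddGroup.mk_surjective z
      obtain ⟨x, hx, y', hy'⟩ := h3 z.1 z.2
      refine ⟨QuotientAddGroup.mk (s := S.abToCycles.range) (⟨x, hx⟩ : S.g.hom.ker),
        (QuotientAddGroup.eq_iff_sub_mem (x := (f.comp S.g.hom.ker.subtype).codRestrict S'.g.hom.ker
          (fun x => h1 x.1 x.2) ⟨x, hx⟩) (y := z)).2 ⟨-y', Subtype.ext ?_⟩⟩
      show S'.f (-y') = f x - z.1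
      rw [map_neg, hy', neg_sub]
  exact ⟨S.abHomologyIso ≪≫ (AddEquiv.ofBijective ψ hb).toAddCommGrpIso ≪≫ S'.abHomologyIso.symm⟩

/-- The same for complexes. -/
theorem homology_iso_of_hom {ι ι' : Type} {c : ComplexShape ι} {c' : ComplexShape ι'}
    (K : HomologicalComplex AddCommGrpCat.{u} c) (L : HomologicalComplex AddCommGrpCat.{u} c')
    (i j k : ι) (hi : c.prev j = i) (hk : c.next j = k) (i' j' k' : ι') (hi' : c'.prev j' = i') (hk' : c'.next j' = k')
    (f : K.X j →+ L.X j')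
    (h1 : ∀ x, K.d j k x = 0 → L.d j' k' (f x) = 0)
    (h2 : ∀ x, K.d j k x = 0 → ((∃ y, K.d i j y = x) ↔ ∃ y', L.d i' j' y' = f x))
    (h3 : ∀ z, L.d j' k' z = 0 → ∃ x, K.d j k x = 0 ∧ ∃ y', L.d i' j' y' = z - f x) :
    Nonempty (K.homology j ≅ L.homology j') := by
  obtain ⟨e⟩ := homologyIso_of_hom (K.sc' i j k) (L.sc' i' j' k') f h1 h2 h3
  exact ⟨K.homologyIsoSc' i j k hi hk ≪≫ e ≪≫ (L.homologyIsoSc' i' j' k' hi' hk').symm⟩

variable (B : Bi.{u})

/-- The column `p` as a complex. -/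
noncomputable def colCx (p : ℕ) : CochainComplex AddCommGrpCat.{u} ℕ :=
  CochainComplex.of (fun n => B.A p n) (fun n => AddCommGrpCat.ofHom (B.v p n))
    (fun n => AddCommGrpCat.ext fun x => B.vv p n x)

lemma colCx_d (p n : ℕ) (x : B.A p n) : (colCx B p).d n (n + 1) x = B.v p n x :=
  ConcreteCategory.congr_hom (CochainComplex.of_d (fun n => B.A p n) (fun n => AddCommGrpCat.ofHom (B.v p n)) n) x

/-- The families in degree `m` in the columns allowed by `j`. -/
def sub (j : EInt) (m : ℤ) : AddSubgroup (∀ i, B.F i) where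
  carrier := {x | ∀ i : ℕ × ℕ, ((Bi.deg i : ℤ) ≠ m ∨ ¬ ((1 - i.1 : ℤ) : EInt) ≤ j) → x i = 0}
  zero_mem' _ _ := rfl
  add_mem' hx hy i hi := by simp [hx i hi, hy i hi]
  neg_mem' hx i hi := by simp [hx i hi]

lemma D_mem {j : EInt} {m : ℤ} {x : ∀ i, B.F i} (hx : x ∈ sub B j m) : B.D x ∈ sub B j (m + 1) := by
  rintro ⟨p, n⟩ hi
  rw [Bi.D_apply]
  have h1 : B.hP x (p, n) = 0 := by
    rcases p with _ | p
    · rfl
    · simp only [Bi.hP]
      rw [hx (p, n) (hi.imp (fun h h' => h (by simp [Bi.deg] at h' ⊢; omega))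
        (fun h h' => h (le_trans (by simp) h'))), map_zero]
  have h2 : B.vP x (p, n) = 0 := by
    rcases n with _ | n
    · rfl
    · simp only [Bi.vP]
      rw [hx (p, n) (hi.imp (fun h h' => h (by simp [Bi.deg] at h' ⊢; omega)) id), map_zero]
  rw [h1, h2, smul_zero, add_zero]

lemma sub_mono {i j : EInt} (h : i ≤ j) (m : ℤ) : sub B i m ≤ sub B j m :=
  fun x hx k hk => hx k (hk.imp id fun hn h' => hn (h'.trans h))

/-- The differential between the steps. -/
noncomputable def subD (j : EInt) (m : ℤ) : sub B j m →+ sub B j (m + 1) :=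
  (B.D.comp (sub B j m).subtype).codRestrict _ fun x => D_mem B x.2

/-- A step of the filtration. -/
noncomputable def stepCx (j : EInt) : CochainComplex AddCommGrpCat.{u} ℤ :=
  CochainComplex.of (fun m => AddCommGrpCat.of (sub B j m)) (fun m => AddCommGrpCat.ofHom (subD B j m))
    (fun _ => AddCommGrpCat.ext fun x => Subtype.ext (B.sq x.1))

lemma stepCx_d (j : EInt) (m m' : ℤ) (h : m + 1 = m') (x : (stepCx B j).X m) :
    ((stepCx B j).d m m' x).1 = B.D x.1 := by
  subst h
  exact congrArg Subtype.val (ConcreteCategory.congr_hom (CochainComplex.of_d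
    (fun m => AddCommGrpCat.of (sub B j m)) (fun m => AddCommGrpCat.ofHom (subD B j m)) m) x)

/-- The filtration by columns. -/
noncomputable def filtration : EInt ⥤ CochainComplex AddCommGrpCat.{u} ℤ where
  obj j := stepCx B j
  map {i j} h :=
    { f := fun m => AddCommGrpCat.ofHom (AddSubgroup.inclusion (sub_mono B (leOfHom h) m))
      comm' := fun m m' hm => by
        obtain rfl : m + 1 = m' := hm
        exact AddCommGrpCat.ext fun x => Subtype.ext ((stepCx_d B j m _ rfl _).trans (stepCx_d B i m _ rfl x).symm) }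
  map_id _ := HomologicalComplex.hom_ext _ _ fun _ => AddCommGrpCat.ext fun _ => Subtype.ext rfl
  map_comp _ _ := HomologicalComplex.hom_ext _ _ fun _ => AddCommGrpCat.ext fun _ => Subtype.ext rfl

lemma mono_filtration (i j : EInt) (h : i ≤ j) : Mono ((filtration B).map (homOfLE h)) :=
  have : ∀ m, Mono (((filtration B).map (homOfLE h)).f m) := fun m =>
    (AddCommGrpCat.mono_iff_injective _).2 (AddSubgroup.inclusion_injective (sub_mono B h m))
  HomologicalComplex.mono_of_mono_f _ this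

lemma isIso_filtration (i j : EInt) (h : i ≤ j) (hi : ((1 : ℤ) : EInt) ≤ i) :
    IsIso ((filtration B).map (homOfLE h)) := by
  have : ∀ m, IsIso (((filtration B).map (homOfLE h)).f m) := fun m => by
    refine (ConcreteCategory.isIso_iff_bijective _).2 ⟨AddSubgroup.inclusion_injective (sub_mono B h m), fun x => ?_⟩
    exact ⟨⟨x.1, fun k hk => x.2 k (hk.imp id fun hn _ => hn (le_trans (by simp) hi))⟩, Subtype.ext rfl⟩
  exact HomologicalComplex.Hom.isIso_of_components _

lemma isZero_filtration (j : EInt) (n : ℤ) (hj : j ≤ ((-n : ℤ) : EInt)) : IsZero (((filtration B).obj j).X n) := by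
  have : Subsingleton (sub B j n) := ⟨fun x y => Subtype.ext (funext fun k => by
    have hk : (Bi.deg k : ℤ) ≠ n ∨ ¬ ((1 - k.1 : ℤ) : EInt) ≤ j := by
      by_cases h : (Bi.deg k : ℤ) = n
      · refine Or.inr fun h' => ?_
        have := h'.trans hj
        simp [Bi.deg] at this h
        omega
      · exact Or.inl h
    rw [x.2 k hk, y.2 k hk])⟩
  exact AddCommGrpCat.isZero_of_subsingleton (AddCommGrpCat.of (sub B j n))

lemma isZero_filtration_bot : IsZero ((filtration B).obj ⊥) := by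
  refine (IsZero.iff_id_eq_zero _).2 (HomologicalComplex.hom_ext _ _ fun n => AddCommGrpCat.ext fun x =>
    Subtype.ext (funext fun k => x.2 k (Or.inr ?_)))
  simp

/-- The families in degree `m` in the column `a`. -/
def sliceSub (a : ℕ) (m : ℤ) : AddSubgroup (∀ i, B.F i) where
  carrier := {x | ∀ i : ℕ × ℕ, ((Bi.deg i : ℤ) ≠ m ∨ i.1 ≠ a) → x i = 0}
  zero_mem' _ _ := rfl
  add_mem' hx hy i hi := by simp [hx i hi, hy i hi]
  neg_mem' hx i hi := by simp [hx i hi]

/-- Cutting out a column. -/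
noncomputable def cut (a : ℕ) : (∀ i, B.F i) →+ ∀ i, B.F i where
  toFun x i := if i.1 = a then x i else 0
  map_zero' := funext fun i => by simp
  map_add' x y := funext fun i => by by_cases h : i.1 = a <;> simp [h]

lemma cut_eq {a : ℕ} (x : ∀ i, B.F i) {i : ℕ × ℕ} (h : i.1 = a) : cut B a x i = x i := if_pos h

lemma cut_ne {a : ℕ} (x : ∀ i, B.F i) {i : ℕ × ℕ} (h : i.1 ≠ a) : cut B a x i = 0 := if_neg h

lemma cut_mem {a : ℕ} {j : EInt} {m : ℤ} {x : ∀ i, B.F i} (hx : x ∈ sub B j m) : cut B a x ∈ sliceSub B a m := by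
  intro i hi
  by_cases h : i.1 = a
  · rw [cut_eq B x h]
    exact hx i (hi.imp id fun h' => absurd h h')
  · exact cut_ne B x h

lemma slice_le {a : ℕ} (m : ℤ) : sliceSub B a m ≤ sub B ((1 - a : ℤ) : EInt) m := fun x hx i hi =>
  hx i (hi.imp id fun h h' => h (by simp [h']))

lemma cut_D {a : ℕ} {m : ℤ} {x : ∀ i, B.F i} (hx : x ∈ sub B ((1 - a : ℤ) : EInt) m) :
    cut B a (B.D (cut B a x)) = cut B a (B.D x) := by
  funext ⟨p, n⟩
  by_cases h : p = a
  · subst h
    rw [cut_eq B _ (i := (p, n)) rfl, cut_eq B _ (i := (p, n)) rfl, Bi.D_apply, Bi.D_apply]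
    congr 1
    · rcases p with _ | p
      · rfl
      · simp only [Bi.hP]
        rw [cut_ne B x (by simp), hx (p, n) (Or.inr (by simp))]
    · rcases n with _ | n
      · rfl
      · simp only [Bi.vP]
        rw [cut_eq B x (i := (p, n)) rfl]
  · rw [cut_ne B _ h, cut_ne B _ h]

/-- A column, in total degrees. -/
noncomputable def sliceCx (a : ℕ) : CochainComplex AddCommGrpCat.{u} ℤ :=
  CochainComplex.of (fun m => AddCommGrpCat.of (sliceSub B a m))
    (fun m => AddCommGrpCat.ofHom (((cut B a).comp (B.D.comp (sliceSub B a m).subtype)).codRestrict _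
      fun x => cut_mem B (D_mem B (slice_le B m x.2))))
    (fun m => AddCommGrpCat.ext fun x => Subtype.ext <| by
      show cut B a (B.D (cut B a (B.D x.1))) = 0
      rw [cut_D B (D_mem B (slice_le B m x.2)), B.sq, map_zero])

lemma sliceCx_d (a : ℕ) (m m' : ℤ) (h : m + 1 = m') (x : (sliceCx B a).X m) :
    ((sliceCx B a).d m m' x).1 = cut B a (B.D x.1) := by
  subst h
  exact congrArg Subtype.val (ConcreteCategory.congr_hom (CochainComplex.of_d
    (fun m => AddCommGrpCat.of (sliceSub B a m))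
    (fun m => AddCommGrpCat.ofHom (((cut B a).comp (B.D.comp (sliceSub B a m).subtype)).codRestrict _
      fun x => cut_mem B (D_mem B (slice_le B m x.2)))) m) x)

/-- The graded pieces of the filtration are the columns. -/
theorem nonempty_cokernel_iso_slice (a : ℕ) :
    Nonempty (cokernel ((filtration B).map (homOfLE
      (show ((-a : ℤ) : EInt) ≤ ((-a + 1 : ℤ) : EInt) by simp))) ≅ sliceCx B a) := by
  let h : ((-a : ℤ) : EInt) ≤ ((-a + 1 : ℤ) : EInt) := by simp
  have he : ((-a + 1 : ℤ) : EInt) = ((1 - a : ℤ) : EInt) := by congr 1; omega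
  let g : (filtration B).obj ((-a + 1 : ℤ) : EInt) ⟶ sliceCx B a :=
    { f := fun m => AddCommGrpCat.ofHom (((cut B a).comp (sub B _ m).subtype).codRestrict _
        fun x => cut_mem B x.2)
      comm' := fun m m' hm => AddCommGrpCat.ext fun x => Subtype.ext <| by
        refine (sliceCx_d B a m m' hm _).trans (Eq.trans ?_ (congrArg (cut B a) (stepCx_d B _ m m' hm x).symm))
        exact cut_D B (m := m) (he ▸ x.2) }
  have w : (filtration B).map (homOfLE h) ≫ g = 0 := by
    ext m x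
    refine Subtype.ext (funext fun i => ?_)
    by_cases hi : i.1 = a
    · exact (cut_eq B _ hi).trans (x.2 i (Or.inr (by simp [hi])))
    · exact cut_ne B _ hi
  let S := ShortComplex.mk _ g w
  have hS : S.ShortExact := HomologicalComplex.shortExact_of_degreewise_shortExact S fun m =>
    ShortComplex.ShortExact.mk'
      ((ShortComplex.ab_exact_iff _).2 fun x hx => by
        refine ⟨⟨x.1, fun i hi => ?_⟩, Subtype.ext rfl⟩
        by_cases hia : i.1 = a
        · exact (cut_eq B x.1 hia).symm.trans (congrFun (congrArg Subtype.val hx) i)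
        · refine x.2 i (hi.imp id fun hn h' => hn ?_)
          simp at h' ⊢
          omega)
      ((AddCommGrpCat.mono_iff_injective _).2 (AddSubgroup.inclusion_injective (sub_mono B h m)))
      ((AddCommGrpCat.epi_iff_surjective _).2 fun y =>
        ⟨⟨y.1, he ▸ slice_le B m y.2⟩, Subtype.ext (funext fun i => by
          by_cases hi : i.1 = a
          · exact cut_eq B y.1 hi
          · exact (cut_ne B y.1 hi).trans (y.2 i (Or.inr hi)).symm)⟩)
  exact ⟨(cokernelIsCokernel _).coconePointUniqueUpToIso hS.gIsCokernel⟩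

lemma D_slice {a n : ℕ} {m : ℤ} {x : ∀ i, B.F i} (hx : x ∈ sliceSub B a m) :
    B.D x (a, n + 1) = (-1 : ℤ) ^ a • B.v a n (x (a, n)) := by
  rw [Bi.D_apply]
  have h1 : B.hP x (a, n + 1) = 0 := by
    rcases a with _ | a
    · rfl
    · simp only [Bi.hP]
      rw [hx (a, n + 1) (Or.inr (by simp)), map_zero]
  rw [h1, zero_add]
  rfl

/-- Cohomology of a column in total degrees. -/
theorem nonempty_homology_slice_iso (a q : ℕ) :
    Nonempty ((sliceCx B a).homology ((a : ℤ) + (q : ℤ)) ≅ (colCx B a).homology q) := by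
  let m : ℤ := (a : ℤ) + (q : ℤ)
  have hd : ∀ x : (sliceCx B a).X m, ((sliceCx B a).d m (m + 1) x).1 (a, q + 1) = (-1 : ℤ) ^ a • B.v a q (x.1 (a, q)) :=
    fun x => by rw [sliceCx_d B a m _ rfl, cut_eq B _ (i := (a, q + 1)) rfl, D_slice B x.2]
  have hsingle : ∀ (n : ℕ) (m' : ℤ), (a : ℤ) + n = m' → ∀ y : B.A a n, B.single (a, n) y ∈ sliceSub B a m' := by
    intro n m' hn y i hi
    refine B.single_ne (i := (a, n)) y fun e => ?_
    subst e
    simp [Bi.deg] at hi
    omega
  have hext : ∀ (n : ℕ) (m' : ℤ), (a : ℤ) + n = m' → ∀ z w : (sliceCx B a).X m', z.1 (a, n) = w.1 (a, n) → z = w := by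
    intro n m' hn z w h
    refine Subtype.ext (funext fun i => ?_)
    by_cases hi : i = (a, n)
    · subst hi; exact h
    · have hi' : (Bi.deg i : ℤ) ≠ m' ∨ i.1 ≠ a := by
        by_contra hc
        simp [Bi.deg] at hc
        exact hi (Prod.ext hc.2 (by omega))
      rw [z.2 i hi', w.2 i hi']
  refine homology_iso_of_hom (sliceCx B a) (colCx B a) (m - 1) m (m + 1) (by simp) (by simp)
    ((ComplexShape.up ℕ).prev q) q (q + 1) rfl (by simp)
    ((Pi.evalAddMonoidHom B.F (a, q)).comp (sliceSub B a m).subtype)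
    (fun x hx => ?_) (fun x hx => ?_) (fun z hz => ?_)
  · refine (colCx_d B a q _).trans ?_
    have h : (0 : B.A a (q + 1)) = (-1 : ℤ) ^ a • B.v a q (x.1 (a, q)) :=
      (congrArg (fun w : (sliceCx B a).X (m + 1) => w.1 (a, q + 1)) hx).symm.trans (hd x)
    show B.v a q (x.1 (a, q)) = 0
    rcases neg_one_pow_eq_or ℤ a with hs | hs <;> simpa [hs] using h.symm
  · rcases q with _ | q
    · refine ⟨fun ⟨y, hy⟩ => ⟨0, ?_⟩, fun ⟨y', hy'⟩ => ⟨0, ?_⟩⟩
      · rw [map_zero, ← hy]
        have : y = 0 := Subtype.ext (funext fun i => y.2 i (by simp [Bi.deg, m]; omega))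
        subst this
        rw [map_zero]
        rfl
      · rw [map_zero]
        refine hext 0 m (by simp [m]) _ _ (Eq.trans ?_ hy')
        rw [(colCx B a).shape _ _ (by simp)]
        rfl
    · rw [show (ComplexShape.up ℕ).prev (q + 1) = q by simp]
      have hy0 : ∀ y : (sliceCx B a).X (m - 1), ((sliceCx B a).d (m - 1) m y).1 (a, q + 1) =
          (-1 : ℤ) ^ a • B.v a q (y.1 (a, q)) :=
        fun y => by rw [sliceCx_d B a (m - 1) m (by omega), cut_eq B _ (i := (a, q + 1)) rfl, D_slice B y.2]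
      refine ⟨fun ⟨y, hy⟩ => ⟨(-1 : ℤ) ^ a • y.1 (a, q), ?_⟩, fun ⟨y', hy'⟩ => ?_⟩
      · refine (colCx_d B a q _).trans (Eq.trans ?_ (congrArg (fun w : (sliceCx B a).X m => w.1 (a, q + 1)) hy))
        exact (map_zsmul (B.v a q) _ _).trans (hy0 y).symm
      · refine ⟨⟨B.single (a, q) ((-1 : ℤ) ^ a • (show B.A a q from y')), hsingle q _ (by simp [m]; omega) _⟩,
          hext (q + 1) m rfl _ _ ?_⟩
        refine (hy0 _).trans ?_
        show (-1 : ℤ) ^ a • B.v a q (B.single (a, q) ((-1 : ℤ) ^ a • (show B.A a q from y')) (a, q)) = _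
        rw [B.single_self, map_zsmul, smul_smul, ← pow_add, Even.neg_one_pow ⟨a, rfl⟩, one_smul]
        exact (colCx_d B a q y').symm.trans hy'
  · let z' : B.F (a, q) := z
    refine ⟨⟨B.single (a, q) z', hsingle q m rfl z'⟩, hext (q + 1) (m + 1) (by simp [m]; omega) _ _ ?_, 0, ?_⟩
    · refine (hd _).trans ?_
      show (-1 : ℤ) ^ a • B.v a q (B.single (a, q) z' (a, q)) = 0
      rw [B.single_self, show B.v a q z' = 0 from (colCx_d B a q z).symm.trans hz, smul_zero]
    · rw [map_zero]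
      show (0 : B.A a q) = z' - B.single (a, q) z' (a, q)
      rw [B.single_self, sub_self]

/-- The spectral sequence of a first quadrant bicomplex. -/
theorem exists_bicomplex_spectralSequence (H : ℤ → AddCommGrpCat.{u})
    (eH : ∀ n, (stepCx B ⊤).homology n ≅ H n) (E1 : ℤ → ℤ → AddCommGrpCat.{u})
    (h1 : ∀ p q : ℕ, Nonempty ((colCx B p).homology q ≅ E1 p q))
    (h0 : ∀ p q : ℤ, (p < 0 ∨ q < 0) → IsZero (E1 p q)) :
    ∃ (E : CohomologicalSpectralSequence AddCommGrpCat.{u} 1) (a : SpSeq.Abutment E H),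
      (∀ n, a.IsFinite n) ∧ SpSeq.IsBounded E ∧
      ∀ p q : ℤ, Nonempty ((E.page 1 le_rfl).X (p, q) ≅ E1 p q) := by
  refine exists_filtered_spectralSequence (filtration B) (mono_filtration B)
    (fun i j h hi => isIso_filtration B i j h hi) (isZero_filtration B) (isZero_filtration_bot B) H eH E1
    (fun p q hp hq => ?_) h0
  obtain ⟨a, rfl⟩ : ∃ a : ℕ, p = a := ⟨p.toNat, (Int.toNat_of_nonneg hp).symm⟩
  obtain ⟨b, rfl⟩ : ∃ b : ℕ, q = b := ⟨q.toNat, (Int.toNat_of_nonneg hq).symm⟩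
  obtain ⟨e₁⟩ := nonempty_cokernel_iso_slice B a
  obtain ⟨e₂⟩ := nonempty_homology_slice_iso B a b
  obtain ⟨e₃⟩ := h1 a b
  exact ⟨(HomologicalComplex.homologyFunctor _ _ _).mapIso e₁ ≪≫ e₂ ≪≫ e₃⟩

end Groth.Agent.DSites.Desc
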