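import Groth.Agent.DSites.Desc.FlasqueH
import Mathlib.Topology.Sheaves.SheafCondition.UniqueGluing
import Mathlib.Algebra.Homology.QuasiIso

/-!
# Cohomology of a space covered by disjoint open subspaces
-/

universe u

set_option autoImplicit false
set_option backward.isDefEq.respectTransparency false
set_option backward.isDefEq.respectTransparency.types false

open CategoryTheory CategoryTheory.Limits Opposite TopologicalSpace Topology

namespace Groth.Agent.DSites.Desc

noncomputable section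

/-- Homology of short complexes commutes with products. -/
theorem nonempty_homology_prod {ι : Type u} (S : ShortComplex AddCommGrpCat.{u})
    (T : ι → ShortComplex AddCommGrpCat.{u}) (g : ∀ σ, S ⟶ T σ)
    (h1 : Function.Surjective fun x σ => (g σ).τ₁ x) (h2 : Function.Bijective fun x σ => (g σ).τ₂ x)
    (h3 : Function.Injective fun x σ => (g σ).τ₃ x) :
    Nonempty (S.homology ≅ AddCommGrpCat.of (∀ σ, (T σ).homology)) := by
  have c₁ : ∀ σ x, (T σ).f ((g σ).τ₁ x) = (g σ).τ₂ (S.f x) := fun σ x =>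
    ConcreteCategory.congr_hom (g σ).comm₁₂ x
  have c₂ : ∀ σ x, (T σ).g ((g σ).τ₂ x) = (g σ).τ₃ (S.g x) := fun σ x =>
    ConcreteCategory.congr_hom (g σ).comm₂₃ x
  let φ : S.g.hom.ker →+ ∀ σ, (T σ).g.hom.ker ⧸ (T σ).abToCycles.range :=
    AddMonoidHom.pi fun σ => (QuotientAddGroup.mk' _).comp (((g σ).τ₂.hom.comp S.g.hom.ker.subtype).codRestrict _
      fun x => (c₂ σ x.1).trans ((congrArg _ x.2).trans (map_zero _)))
  have hker : ∀ x, φ x = 0 ↔ x ∈ S.abToCycles.range := fun x => by
    refine ⟨fun hx => ?_, ?_⟩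
    · choose y hy using fun σ => (QuotientAddGroup.eq_zero_iff _).1 (congrFun hx σ)
      obtain ⟨z, hz⟩ := h1 y
      exact ⟨z, Subtype.ext (h2.1 (funext fun σ =>
        (c₁ σ z).symm.trans ((congrArg (T σ).f (congrFun hz σ)).trans (congrArg Subtype.val (hy σ)))))⟩
    · rintro ⟨z, rfl⟩
      exact funext fun σ => (QuotientAddGroup.eq_zero_iff _).2 ⟨(g σ).τ₁ z, Subtype.ext (c₁ σ z)⟩
  let ψ := QuotientAddGroup.lift S.abToCycles.range φ fun x hx => (hker x).2 hx
  have hb : Function.Bijective ψ := by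
    refine ⟨(injective_iff_map_eq_zero ψ).2 fun x hx => ?_, fun z => ?_⟩
    · obtain ⟨x, rfl⟩ := QuotientAddGroup.mk_surjective x
      exact (QuotientAddGroup.eq_zero_iff _).2 ((hker x).1 hx)
    · choose w hw using fun σ => QuotientAddGroup.mk_surjective (z σ)
      obtain ⟨x, hx⟩ := h2.2 fun σ => (w σ).1
      refine ⟨QuotientAddGroup.mk (s := S.abToCycles.range) (⟨x, h3 (funext fun σ => ?_)⟩ : S.g.hom.ker),
        funext fun σ => ?_⟩
      · exact ((c₂ σ x).symm.trans ((congrArg (T σ).g (congrFun hx σ)).trans (w σ).2)).trans (map_zero _).symm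
      · exact (congrArg (QuotientAddGroup.mk (s := (T σ).abToCycles.range))
          (Subtype.ext (congrFun hx σ))).trans (hw σ)
  let e : (∀ σ, (T σ).g.hom.ker ⧸ (T σ).abToCycles.range) ≃+ ∀ σ, (T σ).homology :=
    AddEquiv.piCongrRight fun σ => ((T σ).abHomologyIso).addCommGroupIsoToAddEquiv.symm
  exact ⟨S.abHomologyIso ≪≫ ((AddEquiv.ofBijective ψ hb).trans e).toAddCommGrpIso⟩

variable {Y : TopCat.{u}}

instance additive_sheafPullback {W : TopCat.{u}} {j : W ⟶ Y} (hj : IsOpenEmbedding j) :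
    (hj.sheafPullback AddCommGrpCat.{u}).Additive where
  map_add := by intros; rfl

/-- Cohomology of a disjoint union is the product of the cohomologies. -/
theorem nonempty_H_disjoint {ι : Type u} {W : ι → TopCat.{u}} (j : ∀ σ, W σ ⟶ Y)
    (hj : ∀ σ, IsOpenEmbedding (j σ)) (hcov : ∀ y, ∃ σ, y ∈ Set.range (j σ))
    (hd : Pairwise fun σ τ => Disjoint (Set.range (j σ)) (Set.range (j τ))) (G : CohTop.Ab Y) (q : ℕ) :
    Nonempty (AddCommGrpCat.of (CohTop.H G q) ≅
      AddCommGrpCat.of (∀ σ, CohTop.H ((CohTop.pull (j σ)).obj G) q)) := by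
  obtain ⟨K, a, ha, hi, hb⟩ := CochainComplex.Plus.modelCategoryQuillen.exists_quasiIso_injective
    ((CochainComplex.singleFunctor (CohTop.Ab Y) 0).obj G) 0
  have hflK : ∀ n, TopCat.Sheaf.IsFlasque (K.X n) := fun n =>
    have := hi n; SiteBase.isFlasque_of_injective _
  obtain ⟨e₀⟩ := nonempty_homology_sections hflK a q
  have hσ : ∀ σ, Nonempty ((((secX (X := W σ) ⊤).mapHomologicalComplex _).obj
      ((((hj σ).sheafPullback AddCommGrpCat.{u}).mapHomologicalComplex (ComplexShape.up ℤ)).obj K)).homology (q : ℤ) ≅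
      AddCommGrpCat.of (CohTop.H ((CohTop.pull (j σ)).obj G) q)) := fun σ => by
    let P := CohTop.pull (j σ)
    let φ := NatTrans.mapHomologicalComplex ((hj σ).sheafPullbackIso AddCommGrpCat.{u}).hom (ComplexShape.up ℤ)
    let R : CohTop.Ab Y ⥤ CohTop.Ab (W σ) := (hj σ).sheafPullback AddCommGrpCat.{u}
    have : R.Additive := additive_sheafPullback (hj σ)
    let KW : CochainComplex (CohTop.Ab (W σ)) ℤ := (R.mapHomologicalComplex (ComplexShape.up ℤ)).obj K
    have : KW.IsStrictlyGE 0 := (CochainComplex.isStrictlyGE_iff _ _).2 fun m hm =>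
      R.map_isZero (K.isZero_of_isStrictlyGE 0 m hm)
    have hfl : ∀ n, TopCat.Sheaf.IsFlasque (KW.X n) := fun n => ⟨fun {U V} g => by
      have := hflK n
      exact TopCat.Presheaf.IsFlasque.epi (F := (K.X n).obj) ((hj σ).functor.op.map g)⟩
    let a' : (CochainComplex.singleFunctor _ 0).obj (P.obj G) ⟶ KW :=
      (HomologicalComplex.singleMapHomologicalComplex P (ComplexShape.up ℤ) 0).inv.app G ≫
        (P.mapHomologicalComplex _).map a ≫ φ.app K
    have : PreservesFiniteLimits P := SiteBase.preservesFiniteLimits_pull (j σ)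
    have : P.IsLeftAdjoint := (TopCat.Sheaf.pullbackPushforwardAdjunction AddCommGrpCat.{u} (j σ)).isLeftAdjoint
    have : PreservesColimitsOfSize.{0, 0} P :=
      (TopCat.Sheaf.pullbackPushforwardAdjunction AddCommGrpCat.{u} (j σ)).leftAdjoint_preservesColimits
    have : PreservesFiniteColimits P := PreservesColimitsOfSize.preservesFiniteColimits P
    have : P.Additive := Functor.additive_of_preserves_binary_products P
    have : QuasiIso ((P.mapHomologicalComplex (ComplexShape.up ℤ)).map a) := inferInstance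
    have : ∀ n, IsIso ((φ.app K).f n) := fun n =>
      inferInstanceAs (IsIso (((hj σ).sheafPullbackIso AddCommGrpCat.{u}).hom.app (K.X n)))
    have := HomologicalComplex.Hom.isIso_of_components (φ.app K)
    have : QuasiIso a' := inferInstance
    exact nonempty_homology_sections hfl a' q
  let eσ := fun σ => (hσ σ).some
  let L := ((secX (⊤ : Opens Y)).mapHomologicalComplex (ComplexShape.up ℤ)).obj K
  let M := fun σ => ((secX (X := W σ) ⊤).mapHomologicalComplex (ComplexShape.up ℤ)).obj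
      ((((hj σ).sheafPullback AddCommGrpCat.{u}).mapHomologicalComplex (ComplexShape.up ℤ)).obj K)
  let g : ∀ σ, L ⟶ M σ := fun σ =>
    { f := fun n => (K.X n).obj.map (homOfLE le_top : (hj σ).functor.obj ⊤ ⟶ ⊤).op
      comm' := fun n m _ => ((K.d n m).hom.naturality (homOfLE le_top : (hj σ).functor.obj ⊤ ⟶ ⊤).op) }
  have hbij : ∀ n, Function.Bijective fun x σ => (g σ).f n x := fun n => by
    have hc : (⊤ : Opens Y) ≤ iSup fun σ => (hj σ).functor.obj ⊤ := fun y _ => by
      obtain ⟨σ, w, hw⟩ := hcov y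
      exact Opens.mem_iSup.2 ⟨σ, w, trivial, hw⟩
    refine ⟨fun x y e => TopCat.Sheaf.eq_of_locally_eq' (K.X n) (fun σ => (hj σ).functor.obj ⊤) ⊤
      (fun σ => homOfLE le_top) hc x y (fun σ => congrFun e σ), fun s => ?_⟩
    obtain ⟨t, ht, -⟩ := TopCat.Sheaf.existsUnique_gluing' (K.X n) (fun σ => (hj σ).functor.obj ⊤) ⊤
      (fun σ => homOfLE le_top) hc s fun σ τ => by
        by_cases hστ : σ = τ
        · subst hστ; rfl
        · have he : (hj σ).functor.obj ⊤ ⊓ (hj τ).functor.obj ⊤ = ⊥ := by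
            refine Opens.ext (Set.eq_empty_iff_forall_notMem.2 fun y hy => ?_)
            obtain ⟨⟨w, -, hw⟩, ⟨w', -, hw'⟩⟩ := hy
            exact (hd hστ).le_bot ⟨⟨w, hw⟩, ⟨w', hw'⟩⟩
          have hz := TopCat.Sheaf.isTerminalOfEqEmpty (K.X n) he
          exact Subsingleton.elim (h := AddCommGrpCat.subsingleton_of_isZero
            (hz.isZero)) _ _
    exact ⟨t, funext fun σ => ht σ⟩
  obtain ⟨e⟩ := nonempty_homology_prod (L.sc (q : ℤ)) (fun σ => (M σ).sc (q : ℤ))
    (fun σ => (HomologicalComplex.shortComplexFunctor AddCommGrpCat.{u} _ (q : ℤ)).map (g σ))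
    (hbij _).2 (hbij _) (hbij _).1
  exact ⟨e₀.symm ≪≫ e ≪≫ (AddEquiv.piCongrRight fun σ => (eσ σ).addCommGroupIsoToAddEquiv).toAddCommGrpIso⟩

end

end Groth.Agent.DSites.Desc
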