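import Groth.Agent.DSites.Desc.DescSS
import Groth.Agent.DSites.Desc.DisjointH
import Groth.Agent.CohDesc82.ProperNerve
import Mathlib.CategoryTheory.Limits.Shapes.ConcreteCategory
import Mathlib.Topology.Maps.Proper.Basic
import Mathlib.CategoryTheory.Adjunction.Unique

/-!
# Closed covers
-/

universe u

set_option autoImplicit false
set_option backward.isDefEq.respectTransparency false
set_option backward.isDefEq.respectTransparency.types false

open CategoryTheory CategoryTheory.Limits Opposite TopologicalSpace Topology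

namespace Groth.Agent.DSites.Desc

noncomputable section

variable {X : TopCat.{u}} {I : Type u} (U : I → Set X)

/-- The disjoint union of a family of subsets. -/
abbrev coverSpace : TopCat.{u} := TopCat.of (Σ i, U i)

/-- Its map to the space. -/
abbrev coverMap : coverSpace U ⟶ X :=
  TopCat.ofHom ⟨fun z => z.2.1, continuous_sigma fun _ => continuous_subtype_val⟩

variable {U}

theorem isProperMap_coverMap (hU : ∀ i, IsClosed (U i)) (hlf : LocallyFinite U) :
    IsProperMap (coverMap U) := by
  refine isProperMap_iff_isClosedMap_and_compact_fibers.2 ⟨(coverMap U).hom.continuous, fun C hC => ?_, fun x => ?_⟩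
  · have e : coverMap U '' C = ⋃ i, Subtype.val '' ((fun y : U i => (⟨i, y⟩ : Σ i, U i)) ⁻¹' C) := by
      ext x
      constructor
      · rintro ⟨⟨i, y⟩, hy, rfl⟩
        exact Set.mem_iUnion.2 ⟨i, y, hy, rfl⟩
      · intro hx
        obtain ⟨i, y, hy, rfl⟩ := Set.mem_iUnion.1 hx
        exact ⟨⟨i, y⟩, hy, rfl⟩
    rw [e]
    exact (hlf.subset fun i => Subtype.coe_image_subset (U i) _).isClosed_iUnion
      fun i => (hU i).isClosedEmbedding_subtypeVal.isClosedMap _ (hC.preimage continuous_sigmaMk)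
  · refine ((hlf.point_finite x).subset fun i hi => ?_).of_finite_image (f := Sigma.fst) ?_ |>.isCompact
    · obtain ⟨⟨i, y⟩, hy, rfl⟩ := hi
      obtain rfl : y.1 = x := hy
      exact y.2
    · rintro ⟨i, y⟩ hy ⟨j, z⟩ hz (rfl : i = j)
      exact congrArg (Sigma.mk i) (Subtype.ext (Eq.trans hy (Eq.symm hz)))

variable (U) in
theorem sep_coverMap (z z' : coverSpace U) (h : coverMap U z = coverMap U z') (hne : z ≠ z') :
    ∃ A B : Set (coverSpace U), IsOpen A ∧ IsOpen B ∧ z ∈ A ∧ z' ∈ B ∧ Disjoint A B := by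
  refine ⟨Set.range (Sigma.mk z.1), Set.range (Sigma.mk z'.1), isOpen_range_sigmaMk, isOpen_range_sigmaMk,
    ⟨z.2, rfl⟩, ⟨z'.2, rfl⟩, Set.disjoint_left.2 ?_⟩
  rintro w ⟨a, rfl⟩ ⟨b, hb⟩
  obtain ⟨i, y⟩ := z
  obtain ⟨j, y'⟩ := z'
  obtain rfl : j = i := congrArg Sigma.fst hb
  exact hne (congrArg (Sigma.mk j) (Subtype.ext h))

theorem surjective_coverMap (hcov : ⋃ i, U i = Set.univ) : Function.Surjective (coverMap U) := fun x => by
  obtain ⟨i, hi⟩ := Set.mem_iUnion.1 (hcov ▸ Set.mem_univ x)
  exact ⟨⟨i, ⟨x, hi⟩⟩, rfl⟩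

/-- Inverse images compose. -/
def pullCompIso {A B : TopCat.{u}} (j : A ⟶ B) (g : B ⟶ X) :
    CohTop.pull g ⋙ CohTop.pull j ≅ CohTop.pull (j ≫ g) :=
  ((TopCat.Sheaf.pullbackPushforwardAdjunction AddCommGrpCat.{u} g).comp
    (TopCat.Sheaf.pullbackPushforwardAdjunction AddCommGrpCat.{u} j)).leftAdjointUniq
      (TopCat.Sheaf.pullbackPushforwardAdjunction AddCommGrpCat.{u} (j ≫ g))

variable (U)

/-- The fibre power of the disjoint union. -/
abbrev coverLevel (p : ℕ) : TopCat.{u} :=
  widePullback X (fun _ : Fin (p + 1) => coverSpace U) (fun _ => coverMap U)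

/-- The projection to the space. -/
abbrev coverBase (p : ℕ) : coverLevel U p ⟶ X :=
  WidePullback.base (fun _ : Fin (p + 1) => coverMap U)

/-- The inclusion of an intersection. -/
abbrev coverInc {p : ℕ} (σ : Fin (p + 1) → I) : TopCat.of (⋂ k, U (σ k) : Set X) ⟶ X :=
  TopCat.ofHom ⟨((↑) : (⋂ k, U (σ k) : Set X) → X), continuous_subtype_val⟩

/-- An intersection in the fibre power. -/
def coverPiece {p : ℕ} (σ : Fin (p + 1) → I) : TopCat.of (⋂ k, U (σ k) : Set X) ⟶ coverLevel U p :=
  WidePullback.lift (coverInc U σ)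
    (fun k => TopCat.ofHom ⟨fun x => ⟨σ k, ⟨x.1, Set.mem_iInter.1 x.2 k⟩⟩,
      continuous_sigmaMk.comp (continuous_subtype_val.subtype_mk _)⟩)
    (fun _ => rfl)

/-- The indices of a point of the fibre power. -/
def coverIdx {p : ℕ} (w : coverLevel U p) (k : Fin (p + 1)) : I :=
  (WidePullback.π (fun _ : Fin (p + 1) => coverMap U) k w).1

theorem coverIdx_piece {p : ℕ} (σ : Fin (p + 1) → I) (x : TopCat.of (⋂ k, U (σ k) : Set X)) :
    coverIdx U (coverPiece U σ x) = σ :=
  funext fun k => congrArg Sigma.fst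
    ((ConcreteCategory.comp_apply (coverPiece U σ) (WidePullback.π _ k) x).symm.trans
      (ConcreteCategory.congr_hom (WidePullback.lift_π (fun _ : Fin (p + 1) => coverMap U) _ _ _ k) x))

theorem piece_comp_base {p : ℕ} (σ : Fin (p + 1) → I) : coverPiece U σ ≫ coverBase U p = coverInc U σ :=
  WidePullback.lift_base _ _ _ _

theorem range_coverPiece {p : ℕ} (σ : Fin (p + 1) → I) :
    Set.range (coverPiece U σ) = {w | coverIdx U w = σ} := by
  ext w
  constructor
  · rintro ⟨x, rfl⟩
    exact coverIdx_piece U σ x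
  · intro (hw : coverIdx U w = σ)
    have hπ : ∀ k, coverMap U (WidePullback.π (fun _ : Fin (p + 1) => coverMap U) k w) = coverBase U p w :=
      fun k => ConcreteCategory.congr_hom (WidePullback.π_arrow (fun _ : Fin (p + 1) => coverMap U) k) w
    have hm : coverBase U p w ∈ ⋂ k, U (σ k) := Set.mem_iInter.2 fun k => by
      rw [← hπ k, ← hw]
      exact (WidePullback.π (fun _ : Fin (p + 1) => coverMap U) k w).2.2
    refine ⟨⟨_, hm⟩, Concrete.widePullback_ext _ _ _ ?_ fun k => ?_⟩
    · exact ConcreteCategory.congr_hom (piece_comp_base U σ) ⟨_, hm⟩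
    · refine ((ConcreteCategory.comp_apply (coverPiece U σ) (WidePullback.π _ k) _).symm.trans
        (ConcreteCategory.congr_hom (WidePullback.lift_π (fun _ : Fin (p + 1) => coverMap U) _ _ _ k) ⟨_, hm⟩)).trans ?_
      have h1 : (WidePullback.π (fun _ : Fin (p + 1) => coverMap U) k w).1 = σ k := congrFun hw k
      generalize hz : WidePullback.π (fun _ : Fin (p + 1) => coverMap U) k w = z at h1 ⊢
      obtain ⟨i, y⟩ := z
      obtain rfl : i = σ k := h1
      exact congrArg (Sigma.mk (σ k)) (Subtype.ext ((hπ k).symm.trans (congrArg (coverMap U) hz)))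

theorem isOpenEmbedding_coverPiece {p : ℕ} (σ : Fin (p + 1) → I) : IsOpenEmbedding (coverPiece U σ) := by
  have he : ⇑(coverBase U p) ∘ ⇑(coverPiece U σ) = Subtype.val := by
    exact funext fun x => ConcreteCategory.congr_hom (piece_comp_base U σ) x
  refine ⟨⟨IsInducing.of_comp (coverPiece U σ).hom.continuous (coverBase U p).hom.continuous
    (he ▸ IsInducing.subtypeVal), Function.Injective.of_comp (he ▸ Subtype.val_injective)⟩, ?_⟩
  rw [range_coverPiece]
  have e : {w : coverLevel U p | coverIdx U w = σ} =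
      ⋂ k, WidePullback.π (fun _ : Fin (p + 1) => coverMap U) k ⁻¹' Set.range (Sigma.mk (σ k)) := by
    ext w
    rw [Set.mem_iInter]
    refine funext_iff.trans (forall_congr' fun k => ⟨fun h => ?_, ?_⟩)
    · change (WidePullback.π (fun _ : Fin (p + 1) => coverMap U) k w).1 = σ k at h
      show WidePullback.π (fun _ : Fin (p + 1) => coverMap U) k w ∈ Set.range (Sigma.mk (σ k))
      exact h ▸ ⟨_, rfl⟩
    · rintro ⟨y, hy⟩
      exact (congrArg Sigma.fst hy).symm
  rw [e]
  exact isOpen_iInter_of_finite fun k =>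
    isOpen_range_sigmaMk.preimage (WidePullback.π (fun _ : Fin (p + 1) => coverMap U) k).hom.continuous

/-- The cohomology of the fibre power. -/
theorem nonempty_H_coverLevel (F : CohTop.Ab X) (p q : ℕ) :
    Nonempty (AddCommGrpCat.of (CohTop.H ((CohTop.pull (coverBase U p)).obj F) q) ≅
      AddCommGrpCat.of (∀ σ : Fin (p + 1) → I, CohTop.H ((CohTop.pull (coverInc U σ)).obj F) q)) := by
  obtain ⟨e⟩ := nonempty_H_disjoint (coverPiece U (p := p)) (isOpenEmbedding_coverPiece U)
    (fun w => ⟨coverIdx U w, (range_coverPiece U _).symm ▸ (rfl : coverIdx U w = coverIdx U w)⟩)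
    (fun σ τ h => by
      show Disjoint (Set.range (coverPiece U σ)) (Set.range (coverPiece U τ))
      rw [range_coverPiece, range_coverPiece, Set.disjoint_left]
      exact fun w h1 h2 => h (h1.symm.trans h2)) ((CohTop.pull (coverBase U p)).obj F) q
  exact ⟨e ≪≫ (AddEquiv.piCongrRight fun σ => ((Sheaf.cohomologyFunctor _ q).mapIso
    ((pullCompIso (coverPiece U σ) (coverBase U p)).app F ≪≫
      eqToIso (congrArg (fun g => (CohTop.pull g).obj F) (piece_comp_base U σ)))).addCommGroupIsoToAddEquiv).toAddCommGrpIso⟩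

end

end Groth.Agent.DSites.Desc
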