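import Groth.Agent.DSites.Desc.Bicomplex
import Groth.Agent.SiteBase.Top
import Groth.Agent.SiteBase.GodementCx
import Groth.Agent.SpObjSS.SiteLeray
import Groth.Agent.TriCat.Adapted
import Groth.Agent.CohDesc82.Abstract
import Mathlib.CategoryTheory.Abelian.Injective.Extend
import Mathlib.Algebra.Homology.HomotopyCategory.Acyclic

/-!
# Cohomology from flasque resolutions
-/

universe u

set_option autoImplicit false

open CategoryTheory CategoryTheory.Limits Opposite TopologicalSpace DerivedCategory

attribute [local instance] HasDerivedCategory.standard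

namespace Groth.Agent.DSites.Desc

variable {X : TopCat.{u}}

/-- Sections over an open. -/
noncomputable abbrev secX (U : Opens X) : CohTop.Ab X ⥤ AddCommGrpCat.{u} :=
  SpObjSS.secAt (J := Opens.grothendieckTopology X) U

lemma isFlasque_biprod (A B : CohTop.Ab X) [TopCat.Sheaf.IsFlasque A] [TopCat.Sheaf.IsFlasque B] :
    TopCat.Sheaf.IsFlasque (A ⊞ B : CohTop.Ab X) where
  epi {U V} i := by
    refine (AddCommGrpCat.epi_iff_surjective _).2 fun s => ?_
    obtain ⟨a, ha⟩ := (AddCommGrpCat.epi_iff_surjective _).1 (TopCat.Presheaf.IsFlasque.epi (F := A.obj) i)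
      ((biprod.fst : A ⊞ B ⟶ A).hom.app V s)
    obtain ⟨b, hb⟩ := (AddCommGrpCat.epi_iff_surjective _).1 (TopCat.Presheaf.IsFlasque.epi (F := B.obj) i)
      ((biprod.snd : A ⊞ B ⟶ B).hom.app V s)
    refine ⟨(biprod.inl : A ⟶ A ⊞ B).hom.app U a + (biprod.inr : B ⟶ A ⊞ B).hom.app U b, ?_⟩
    rw [map_add]
    refine Eq.trans (congrArg₂ (· + ·)
      ((ConcreteCategory.congr_hom ((biprod.inl : A ⟶ A ⊞ B).hom.naturality i) a).symm.trans
        (congrArg ((biprod.inl : A ⟶ A ⊞ B).hom.app V) ha))
      ((ConcreteCategory.congr_hom ((biprod.inr : B ⟶ A ⊞ B).hom.naturality i) b).symm.trans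
        (congrArg ((biprod.inr : B ⟶ A ⊞ B).hom.app V) hb))) ?_
    exact ConcreteCategory.congr_hom (congrArg (fun q => q.hom.app V)
      (biprod.total : (biprod.fst : A ⊞ B ⟶ A) ≫ biprod.inl + biprod.snd ≫ biprod.inr = 𝟙 _)) s

/-- Flasque sheaves are adapted to sections. -/
theorem isAdapted_secX (U : Opens X) : TriCat.IsAdapted (secX U) (fun A : CohTop.Ab X => TopCat.Sheaf.IsFlasque A) where
  zero Z hZ := SiteBase.isFlasque_of_isZero Z hZ
  ses S hS h1 h2 := by
    have := h1
    refine ⟨?_, fun w => ?_⟩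
    · have := h2
      exact TopCat.Sheaf.IsFlasque.of_shortExact_of_isFlasque₁₂ hS
    · have := hS.mono_f
      exact ShortComplex.ShortExact.mk' (hS.exact.map_of_mono_of_preservesKernel (secX U) hS.mono_f inferInstance)
        (inferInstanceAs (Mono ((secX U).map S.f))) (TopCat.Sheaf.IsFlasque.epi_of_shortExact hS)

/-- Sections preserve quasi-isomorphisms of bounded below complexes of flasque sheaves. -/
theorem quasiIso_sections {K L : CochainComplex (CohTop.Ab X) ℤ} (f : K ⟶ L) [QuasiIso f] (U : Opens X) (a : ℤ)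
    [K.IsStrictlyGE a] [L.IsStrictlyGE a] (hK : ∀ n, TopCat.Sheaf.IsFlasque (K.X n))
    (hL : ∀ n, TopCat.Sheaf.IsFlasque (L.X n)) :
    QuasiIso (((secX U).mapHomologicalComplex (ComplexShape.up ℤ)).map f) := by
  have hQ : (CochainComplex.mappingCone f).Acyclic := by
    rw [← HomotopyCategory.quotient_obj_mem_subcategoryAcyclic_iff_acyclic]
    refine ((HomotopyCategory.subcategoryAcyclic _).trW_iff_of_distinguished _
      (HomotopyCategory.mappingCone_triangleh_distinguished f)).1 ?_
    rw [← HomotopyCategory.quasiIso_eq_trW_subcategoryAcyclic]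
    exact (HomotopyCategory.quotient_map_mem_quasiIso_iff f).2 ((HomologicalComplex.mem_quasiIso_iff f).2 inferInstance)
  let e : ∀ n, (CochainComplex.mappingCone f).X n ≅ K.X (n + 1) ⊞ L.X n := fun n =>
    { hom := biprod.lift ((CochainComplex.mappingCone.fst f).1.v n (n + 1) rfl)
        ((CochainComplex.mappingCone.snd f).v n n (add_zero n))
      inv := biprod.desc ((CochainComplex.mappingCone.inl f).v (n + 1) n (by omega))
        ((CochainComplex.mappingCone.inr f).f n)
      hom_inv_id := by simp [CochainComplex.mappingCone.id_X]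
      inv_hom_id := by apply biprod.hom_ext' <;> apply biprod.hom_ext <;> simp }
  have : (CochainComplex.mappingCone f).IsStrictlyGE (a - 1) := by
    rw [CochainComplex.isStrictlyGE_iff]
    intro i hi
    exact IsZero.of_iso ((biprod_isZero_iff _ _).2
      ⟨K.isZero_of_isStrictlyGE a _ (by omega), L.isZero_of_isStrictlyGE a _ (by omega)⟩) (e i)
  have hP : ∀ n, TopCat.Sheaf.IsFlasque ((CochainComplex.mappingCone f).X n) := fun n => by
    have := hK (n + 1)
    have := hL n
    have := isFlasque_biprod (K.X (n + 1)) (L.X n)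
    refine ⟨fun {U V} i => (AddCommGrpCat.epi_iff_surjective _).2 fun s => ?_⟩
    obtain ⟨t, ht⟩ := (AddCommGrpCat.epi_iff_surjective _).1
      (TopCat.Presheaf.IsFlasque.epi (F := (K.X (n + 1) ⊞ L.X n : CohTop.Ab X).obj) i) ((e n).hom.hom.app V s)
    refine ⟨(e n).inv.hom.app U t, ?_⟩
    refine (ConcreteCategory.congr_hom ((e n).inv.hom.naturality i) t).symm.trans
      ((congrArg ((e n).inv.hom.app V) ht).trans ?_)
    exact ConcreteCategory.congr_hom (congrArg (fun q => q.hom.app V) (e n).hom_inv_id) s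
  have hacy : (((secX U).mapHomologicalComplex _).obj (CochainComplex.mappingCone f)).Acyclic := fun n =>
    TriCat.acyclic_map_of_adapted (isAdapted_secX U) _ (a - 1) hQ hP n
  rw [← HomologicalComplex.mem_quasiIso_iff, ← HomotopyCategory.quotient_map_mem_quasiIso_iff,
    HomotopyCategory.quasiIso_eq_trW_subcategoryAcyclic]
  refine ((HomotopyCategory.subcategoryAcyclic _).trW_iff_of_distinguished _
    (HomotopyCategory.mappingCone_triangleh_distinguished _)).2 ?_
  refine (HomotopyCategory.quotient_obj_mem_subcategoryAcyclic_iff_acyclic _).2 fun n => ?_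
  exact (hacy n).of_iso (CochainComplex.mappingCone.mapHomologicalComplexIso f (secX U))

/-- Sections of the extended complex of an injective resolution compute cohomology. -/
theorem nonempty_homology_resolution {G : CohTop.Ab X} (R : InjectiveResolution G) (q : ℕ) :
    Nonempty ((((secX (⊤ : Opens X)).mapHomologicalComplex _).obj R.cochainComplex).homology (q : ℤ) ≅
      AddCommGrpCat.of (CohTop.H G q)) := by
  let S := secX (⊤ : Opens X)
  let h := fun (n : ℕ) (m : ℤ) (hn : (n : ℤ) = m) => S.mapIso (R.cochainComplexXIso m n hn)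
  have hd : ∀ (n : ℕ) (m m' : ℤ) (hn : (n : ℤ) = m) (hn' : ((n + 1 : ℕ) : ℤ) = m') (x : S.obj (R.cocomplex.X n)),
      S.map (R.cochainComplex.d m m') ((h n m hn).inv x) = (h (n + 1) m' hn').inv (S.map (R.cocomplex.d n (n + 1)) x) :=
    fun n m m' hn hn' x => by
      have e : (R.cochainComplexXIso m n hn).inv ≫ R.cochainComplex.d m m' =
          R.cocomplex.d n (n + 1) ≫ (R.cochainComplexXIso m' (n + 1) hn').inv := by
        rw [R.cochainComplex_d m m' n (n + 1) hn hn', Iso.inv_hom_id_assoc]
      have := congrArg (fun g => S.map g x) e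
      simp only [Functor.map_comp] at this
      exact (ConcreteCategory.comp_apply _ _ x).symm.trans (this.trans (ConcreteCategory.comp_apply _ _ x))
  have hinj : ∀ (n : ℕ) (m : ℤ) (hn : (n : ℤ) = m), Function.Injective (h n m hn).inv := fun n m hn a b hab => by
    simpa using congrArg (h n m hn).hom hab
  obtain ⟨e⟩ := homology_iso_of_hom ((S.mapHomologicalComplex _).obj R.cocomplex)
    ((S.mapHomologicalComplex _).obj R.cochainComplex) ((ComplexShape.up ℕ).prev q) q (q + 1) rfl (by simp)
    ((q : ℤ) - 1) (q : ℤ) ((q : ℤ) + 1) (by simp) (by simp) (h q q rfl).inv.hom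
    (fun x hx => (hd q q _ rfl (by simp) x).trans ((congrArg _ hx).trans (map_zero _)))
    (fun x hx => by
      rcases q with _ | q
      · refine ⟨fun ⟨y, hy⟩ => ⟨0, ?_⟩, fun ⟨y, hy⟩ => ⟨0, ?_⟩⟩
        · rw [map_zero, ← hy, HomologicalComplex.shape _ _ _ (by simp)]
          exact (map_zero _).symm
        · rw [map_zero]
          refine hinj 0 _ rfl ((map_zero _).trans (Eq.trans ?_ hy))
          have hz : IsZero (R.cochainComplex.X (((0 : ℕ) : ℤ) - 1)) :=
            R.cochainComplex.isZero_of_isStrictlyGE 0 _ (by simp)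
          exact ((congrArg (fun g => S.map g y) (hz.eq_of_src _ 0)).trans
            (by rw [S.map_zero]; rfl)).symm
      · rw [show (ComplexShape.up ℕ).prev (q + 1) = q by simp]
        refine ⟨fun ⟨y, hy⟩ => ⟨(h q _ (by simp)).inv y, (hd q _ _ _ rfl y).trans (congrArg _ hy)⟩,
          fun ⟨y, hy⟩ => ⟨(h q _ (by simp)).hom y, hinj (q + 1) _ rfl ?_⟩⟩
        refine (hd q (((q + 1 : ℕ) : ℤ) - 1) _ (by simp) rfl _).symm.trans (Eq.trans ?_ hy)
        exact congrArg (S.map (R.cochainComplex.d _ _)) (Iso.hom_inv_id_apply (h q _ _) y))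
    (fun z hz => ⟨(h q q rfl).hom z, hinj (q + 1) _ rfl (by
      refine (hd q q _ rfl (by simp) _).symm.trans (Eq.trans ?_ (map_zero _).symm)
      rw [Iso.hom_inv_id_apply (h q q rfl) z]
      exact hz), 0, (by
      exact (map_zero _).trans ((sub_self z).symm.trans
        (congrArg (fun w => z - w) (Iso.hom_inv_id_apply (h q q rfl) z).symm)))⟩)
  exact ⟨e.symm ≪≫ (R.isoRightDerivedObj S q).symm ≪≫
    SpObjSS.rightDerivedSecAtIso (J := Opens.grothendieckTopology X) ⊤ q G ≪≫
    (SiteBase.huTerminalEquiv isTerminalTop G q).toAddCommGrpIso⟩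

/-- Sections of a flasque resolution compute cohomology. -/
theorem nonempty_homology_sections {G : CohTop.Ab X} {K : CochainComplex (CohTop.Ab X) ℤ} [K.IsStrictlyGE 0]
    (hfl : ∀ n, TopCat.Sheaf.IsFlasque (K.X n)) (a : (CochainComplex.singleFunctor _ 0).obj G ⟶ K) [QuasiIso a]
    (q : ℕ) :
    Nonempty ((((secX (⊤ : Opens X)).mapHomologicalComplex _).obj K).homology (q : ℤ) ≅
      AddCommGrpCat.of (CohTop.H G q)) := by
  let R := injectiveResolution G
  have : R.cochainComplex.IsKInjective := CochainComplex.isKInjective_of_injective R.cochainComplex 0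
  obtain ⟨g, hg⟩ := CohDesc82.Q_map_surjective K R.cochainComplex (inv (Q.map a) ≫ Q.map R.ι')
  have : QuasiIso g := by
    rw [← isIso_Q_map_iff_quasiIso, hg]
    infer_instance
  have := quasiIso_sections g ⊤ 0 hfl (fun n => SiteBase.isFlasque_of_injective (R.cochainComplex.X n))
  obtain ⟨e⟩ := nonempty_homology_resolution R q
  exact ⟨isoOfQuasiIsoAt (((secX (⊤ : Opens X)).mapHomologicalComplex _).map g) (q : ℤ) ≪≫ e⟩

end Groth.Agent.DSites.Desc
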