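import Groth.Agent.CohDesc82.Extend
import Groth.Prelude.Def_CohTop
import Mathlib.Topology.Sheaves.Skyscraper

/-!
# The extension of a sheaf from the final space restricts to its inverse images
-/

universe v u

set_option autoImplicit false
set_option backward.isDefEq.respectTransparency false
set_option backward.isDefEq.respectTransparency.types false

open CategoryTheory CategoryTheory.Limits Opposite TopologicalSpace
open Groth.Agent.CohDesc82

namespace Groth.Agent.DSites.Desc

noncomputable section

/-- Maps out of the stalk of an inverse image are determined on pulled back germs. -/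
theorem pull_stalk_hom_ext {Z X : TopCat.{u}} (f : Z ⟶ X) (G : CohTop.Ab X) (z : Z) {A : AddCommGrpCat.{u}}
    (a b : TopCat.Presheaf.stalk (X := Z) ((CohTop.pull f).obj G).obj z ⟶ A)
    (h : ∀ (W : Opens X) (hz : z ∈ (Opens.map f).obj W),
      ((TopCat.Sheaf.pullbackPushforwardAdjunction AddCommGrpCat.{u} f).unit.app G).hom.app (op W) ≫
          TopCat.Presheaf.germ (X := Z) ((CohTop.pull f).obj G).obj ((Opens.map f).obj W) z hz ≫ a =
        ((TopCat.Sheaf.pullbackPushforwardAdjunction AddCommGrpCat.{u} f).unit.app G).hom.app (op W) ≫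
          TopCat.Presheaf.germ (X := Z) ((CohTop.pull f).obj G).obj ((Opens.map f).obj W) z hz ≫ b) :
    a = b := by
  classical
  let T : TopCat.Sheaf AddCommGrpCat.{u} Z := skyscraperSheaf z A
  let a' : (CohTop.pull f).obj G ⟶ T := ⟨StalkSkyscraperPresheafAdjunctionAuxs.toSkyscraperPresheaf z a⟩
  let b' : (CohTop.pull f).obj G ⟶ T := ⟨StalkSkyscraperPresheafAdjunctionAuxs.toSkyscraperPresheaf z b⟩
  have e : a' = b' := by
    refine ((TopCat.Sheaf.pullbackPushforwardAdjunction AddCommGrpCat.{u} f).homEquiv G T).injective ?_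
    rw [Adjunction.homEquiv_unit, Adjunction.homEquiv_unit]
    refine Sheaf.hom_ext (NatTrans.ext (funext fun W => ?_))
    show ((TopCat.Sheaf.pullbackPushforwardAdjunction AddCommGrpCat.{u} f).unit.app G).hom.app W ≫
        (StalkSkyscraperPresheafAdjunctionAuxs.toSkyscraperPresheaf z a).app (op ((Opens.map f).obj W.unop)) =
      ((TopCat.Sheaf.pullbackPushforwardAdjunction AddCommGrpCat.{u} f).unit.app G).hom.app W ≫
        (StalkSkyscraperPresheafAdjunctionAuxs.toSkyscraperPresheaf z b).app (op ((Opens.map f).obj W.unop))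
    by_cases hz : z ∈ (Opens.map f).obj W.unop
    · simp only [StalkSkyscraperPresheafAdjunctionAuxs.toSkyscraperPresheaf_app]
      rw [dif_pos hz, dif_pos hz]
      simp only [← Category.assoc]
      refine congrArg (· ≫ _) ?_
      simp only [Category.assoc]
      exact h W.unop hz
    · simp only [StalkSkyscraperPresheafAdjunctionAuxs.toSkyscraperPresheaf_app]
      rw [dif_neg hz, dif_neg hz]
  exact (StalkSkyscraperPresheafAdjunctionAuxs.fromStalk_to_skyscraper z a).symm.trans
    ((congrArg (fun t : (CohTop.pull f).obj G ⟶ T => StalkSkyscraperPresheafAdjunctionAuxs.fromStalk z t.hom) e).trans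
      (StalkSkyscraperPresheafAdjunctionAuxs.fromStalk_to_skyscraper z b))

variable {𝒮 : Type} [Category.{0} 𝒮] {Y : 𝒮 ⥤ TopCat.{u}} {T : 𝒮} (hT : IsTerminal T)
  (G : TopCat.Sheaf AddCommGrpCat.{u} (Y.obj T)) (i : 𝒮)

/-- Sections of a sheaf on the final space give sections of its extension. -/
def toLevel : G ⟶ (CohTop.push (aug hT i)).obj ((restr Y i).obj ((extT Y T).obj G)) :=
  ⟨{ app := fun W => ((extAdj Y T).unit.app G).hom.app W ≫
      AddCommGrpCat.ofHom (mv ((extT Y T).obj G).obj (hT.from i)
        (V := (Opens.map (aug hT i)).obj W.unop) (W := W.unop) fun _ hx => hx)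
     naturality := fun W W' g => by
       refine ConcreteCategory.hom_ext _ _ fun (s : G.obj.obj W) => ?_
       have hle : W'.unop ≤ W.unop := leOfHom g.unop
       show mv _ (hT.from i) (fun _ hx => hx) (((extAdj Y T).unit.app G).hom.app W' (G.obj.map g s)) =
         ((fibP ((extT Y T).obj G).obj i).map (homOfLE (show (Opens.map (aug hT i)).obj W'.unop ≤
           (Opens.map (aug hT i)).obj W.unop from fun x hx => hle hx)).op).hom
           (mv _ (hT.from i) (fun _ hx => hx) (((extAdj Y T).unit.app G).hom.app W s))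
       rw [fibP_map, mv_mv _ _ _ (hT.from i) (Category.id_comp _) (fun x hx => hle hx)]
       refine (congrArg (mv _ (hT.from i) _) ((ConcreteCategory.congr_hom
         (((extAdj Y T).unit.app G).hom.naturality g) s).trans (fibP_map _ hle _))).trans ?_
       exact mv_mv _ _ _ (hT.from i) (Category.comp_id _) (fun x hx => hle hx) _ }⟩

/-- The comparison of the inverse image with the extension. -/
def levelMap : (CohTop.pull (aug hT i)).obj G ⟶ (restr Y i).obj ((extT Y T).obj G) :=
  ((TopCat.Sheaf.pullbackPushforwardAdjunction AddCommGrpCat.{u} (aug hT i)).homEquiv _ _).symm (toLevel hT G i)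

lemma unit_levelMap (W : Opens (Y.obj T)) :
    ((TopCat.Sheaf.pullbackPushforwardAdjunction AddCommGrpCat.{u} (aug hT i)).unit.app G).hom.app (op W) ≫
      (levelMap hT G i).hom.app (op ((Opens.map (aug hT i)).obj W)) = (toLevel hT G i).hom.app (op W) := by
  have h := ((TopCat.Sheaf.pullbackPushforwardAdjunction AddCommGrpCat.{u} (aug hT i)).homEquiv_unit
    (X := G) (f := levelMap hT G i)).symm.trans (Equiv.apply_symm_apply _ (toLevel hT G i))
  exact congrArg (fun q => q.hom.app (op W)) h

theorem isIso_levelMap : IsIso (levelMap hT G i) := by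
  have : ∀ z : Y.obj i, IsIso ((TopCat.Presheaf.stalkFunctor AddCommGrpCat.{u} z).map (levelMap hT G i).hom) := by
    intro z
    let φ := (TopCat.Presheaf.stalkFunctor AddCommGrpCat.{u} z).map (levelMap hT G i).hom
    let g := gam hT G i z (aug hT i z) rfl
    let κ : TopCat.Presheaf.stalk G.obj (aug hT i z) ⟶
        TopCat.Presheaf.stalk ((CohTop.pull (aug hT i)).obj G).obj z :=
      (TopCat.Presheaf.stalkFunctor AddCommGrpCat.{u} (aug hT i z)).map
          ((TopCat.Sheaf.pullbackPushforwardAdjunction AddCommGrpCat.{u} (aug hT i)).unit.app G).hom ≫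
        TopCat.Presheaf.stalkPushforward AddCommGrpCat.{u} (aug hT i) ((CohTop.pull (aug hT i)).obj G).obj z
    have hκ : ∀ (W : Opens (Y.obj T)) (hz : z ∈ (Opens.map (aug hT i)).obj W),
        TopCat.Presheaf.germ G.obj W (aug hT i z) hz ≫ κ =
          ((TopCat.Sheaf.pullbackPushforwardAdjunction AddCommGrpCat.{u} (aug hT i)).unit.app G).hom.app (op W) ≫
            TopCat.Presheaf.germ ((CohTop.pull (aug hT i)).obj G).obj ((Opens.map (aug hT i)).obj W) z hz := by
      intro W hz
      refine (TopCat.Presheaf.stalkFunctor_map_germ_assoc W (aug hT i z) hz _ _).trans ?_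
      exact congrArg (_ ≫ ·) (TopCat.Presheaf.stalkPushforward_germ _ _ _ W z hz)
    have h1 : κ ≫ φ = g := by
      refine TopCat.Presheaf.stalk_hom_ext _ fun W hz => ?_
      rw [reassoc_of% (hκ W hz)]
      refine (congrArg (_ ≫ ·) (TopCat.Presheaf.stalkFunctor_map_germ _ z hz (levelMap hT G i).hom)).trans ?_
      refine ((Category.assoc _ _ _).symm.trans (congrArg (· ≫ _) (unit_levelMap hT G i W))).trans ?_
      refine ConcreteCategory.hom_ext _ _ fun s => ?_
      exact (gam_germ hT G z _ rfl hz hz (fun _ hx => hx) s).symm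
    have : IsIso g := isIso_gam hT G i z _ rfl
    have h2 : φ ≫ inv g ≫ κ = 𝟙 _ := by
      refine pull_stalk_hom_ext (aug hT i) G z _ _ fun W hz => ?_
      rw [← Category.assoc, ← hκ W hz, Category.assoc, reassoc_of% h1, IsIso.hom_inv_id_assoc]
      exact (hκ W hz).trans (congrArg (_ ≫ ·) (Category.comp_id _).symm)
    have h3 : (inv g ≫ κ) ≫ φ = 𝟙 _ := by rw [Category.assoc, h1, IsIso.inv_hom_id]
    exact ⟨_, h2, h3⟩
  exact TopCat.Presheaf.isIso_of_stalkFunctor_map_iso (levelMap hT G i)

/-- The inverse image is the restriction of the extension. -/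
def levelIso : (CohTop.pull (aug hT i)).obj G ≅ (restr Y i).obj ((extT Y T).obj G) :=
  have := isIso_levelMap hT G i
  asIso (levelMap hT G i)

end

end Groth.Agent.DSites.Desc
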