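import Groth.Agent.CohDesc82.Link
import Groth.Agent.DSites.Desc.Aug
import Groth.Agent.DSites.Desc.LevelPull
import Groth.Agent.DSites.Desc.FlasqueH

/-!
# The descent spectral sequence of an augmented simplicial space satisfying the Cech criterion
-/

universe u

set_option autoImplicit false
set_option backward.isDefEq.respectTransparency false
set_option backward.isDefEq.respectTransparency.types false

open CategoryTheory CategoryTheory.Limits Opposite TopologicalSpace
open Groth.Agent.CohDesc82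

namespace Groth.Agent.DSites.Desc

noncomputable section

variable {Z : AΔᵒᵖ ⥤ TopCat.{u}}

/-- Homology of a complex indexed by naturals and of its extension to integers. -/
theorem nonempty_homology_nat (C : CochainComplex AddCommGrpCat.{u} ℕ) (L : CochainComplex AddCommGrpCat.{u} ℤ)
    (hL : ∀ m : ℤ, m < 0 → IsZero (L.X m)) (g : ∀ n : ℕ, C.X n →+ L.X ((0 : ℤ) + n))
    (hb : ∀ n, Function.Bijective (g n))
    (hd : ∀ (n : ℕ) x, L.d ((0 : ℤ) + (n : ℤ)) ((0 : ℤ) + ((n + 1 : ℕ) : ℤ)) (g n x) = g (n + 1) (C.d n (n + 1) x))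
    (q : ℕ) : Nonempty (C.homology q ≅ L.homology (q : ℤ)) := by
  obtain ⟨e⟩ : Nonempty (C.homology q ≅ L.homology ((0 : ℤ) + q)) := by
    cases q with
    | zero =>
      refine homology_iso_of_hom C L 0 0 1 (by simp) (by simp) (-1) ((0 : ℤ) + (0 : ℕ)) ((0 : ℤ) + (1 : ℕ))
        (by simp) (by simp) (g 0) (fun x hx => ?_) (fun x hx => ?_) (fun z hz => ?_)
      · rw [hd, hx, map_zero]
      · refine ⟨fun ⟨y, hy⟩ => ⟨0, ?_⟩, fun ⟨y, hy⟩ => ⟨0, ?_⟩⟩
        · rw [map_zero, ← hy, C.shape 0 0 (by simp)]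
          exact (map_zero (g 0)).symm
        · rw [map_zero]
          apply (hb 0).1
          rw [map_zero, ← hy, (hL (-1) (by norm_num)).eq_of_src (L.d _ _) 0]
          rfl
      · obtain ⟨x, rfl⟩ := (hb 0).2 z
        refine ⟨x, (hb 1).1 ?_, 0, ?_⟩
        · rw [← hd, hz, map_zero]
        · rw [map_zero, sub_self]
    | succ q =>
      refine homology_iso_of_hom C L q (q + 1) (q + 2) (by simp) (by simp) ((0 : ℤ) + q)
        ((0 : ℤ) + (q + 1 : ℕ)) ((0 : ℤ) + (q + 2 : ℕ))
        (by simp; try omega) (by simp; try omega) (g (q + 1)) (fun x hx => ?_) (fun x hx => ?_) (fun z hz => ?_)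
      · rw [hd, hx, map_zero]
      · refine ⟨fun ⟨y, hy⟩ => ⟨g q y, ?_⟩, fun ⟨y, hy⟩ => ?_⟩
        · rw [hd, hy]
        · obtain ⟨y, rfl⟩ := (hb q).2 y
          exact ⟨y, (hb _).1 ((hd q y).symm.trans hy)⟩
      · obtain ⟨x, rfl⟩ := (hb _).2 z
        refine ⟨x, (hb _).1 ?_, 0, ?_⟩
        · rw [← hd, hz, map_zero]
        · rw [map_zero, sub_self]
  exact ⟨e ≪≫ eqToIso (congrArg (fun m : ℤ => L.homology m) (zero_add (q : ℤ)))⟩

/-- The columns of the Cech bicomplex of a resolution compute cohomology on the levels. -/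
theorem nonempty_homology_column (F : CohTop.Ab (Z.obj B0)) (K : CochainComplex (Sh Z) ℤ) [K.IsStrictlyGE 0]
    (hfl : ∀ n, FlFib (K.X n).obj) (a : (CochainComplex.singleFunctor (Sh Z) 0).obj ((extB Z).obj F) ⟶ K)
    [QuasiIso a] (p q : ℕ) :
    Nonempty ((colCx (cechBi Z K 0 ⊤) p).homology q ≅
      AddCommGrpCat.of (CohTop.H ((CohTop.pull (Z.map (hbot.from (op (idx p))))).obj F) q)) := by
  let i : AΔᵒᵖ := op (idx p)
  let R := restr Z i
  let KL : CochainComplex (CohTop.Ab (Z.obj i)) ℤ := (R.mapHomologicalComplex _).obj K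
  have : KL.IsStrictlyGE 0 := (CochainComplex.isStrictlyGE_iff _ _).2 fun m hm =>
    R.map_isZero (K.isZero_of_isStrictlyGE 0 m hm)
  have hflK : ∀ n, TopCat.Sheaf.IsFlasque (KL.X n) := fun n =>
    ⟨fun {U V} g => (AddCommGrpCat.epi_iff_surjective _).2 fun s => by
      obtain ⟨t, ht⟩ := hfl n i (leOfHom g.unop) s
      exact ⟨t, (fibP_map _ (leOfHom g.unop) t).trans ht⟩⟩
  let a' : (CochainComplex.singleFunctor (CohTop.Ab (Z.obj i)) 0).obj
      ((CohTop.pull (aug hbot i)).obj F) ⟶ KL :=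
    ((CochainComplex.singleFunctor _ 0).map (levelIso hbot F i).hom) ≫
      (HomologicalComplex.singleMapHomologicalComplex R (ComplexShape.up ℤ) 0).inv.app ((extB Z).obj F) ≫
      (R.mapHomologicalComplex _).map a
  have h1 : QuasiIso ((R.mapHomologicalComplex (ComplexShape.up ℤ)).map a) := inferInstance
  have : QuasiIso a' := by
    have : IsIso ((HomologicalComplex.singleMapHomologicalComplex R (ComplexShape.up ℤ) 0).inv.app ((extB Z).obj F)) :=
      inferInstance
    exact quasiIso_comp _ _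
  obtain ⟨e⟩ := nonempty_homology_sections hflK a' q
  obtain ⟨e'⟩ := nonempty_homology_nat (colCx (cechBi Z K 0 ⊤) p)
    (((secX (⊤ : Opens (Z.obj i))).mapHomologicalComplex _).obj KL)
    (fun m hm => (secX (⊤ : Opens (Z.obj i))).map_isZero (KL.isZero_of_isStrictlyGE 0 m hm))
    (fun n => AddMonoidHom.id ((cechBi Z K 0 ⊤).A p n)) (fun n => Function.bijective_id)
    (fun n x => (colCx_d (cechBi Z K 0 ⊤) p n x).symm) q
  exact ⟨e' ≪≫ e⟩

/-- The descent spectral sequence. -/
theorem exists_descent_spectralSequence (hZ : Crit Z) (F : CohTop.Ab (Z.obj B0)) :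
    ∃ (E : CohomologicalSpectralSequence AddCommGrpCat.{u} 1)
      (a : SpSeq.Abutment E (fun n : ℤ =>
        if 0 ≤ n then AddCommGrpCat.of (CohTop.H F n.toNat) else AddCommGrpCat.of PUnit.{u + 1})),
      (∀ n, a.IsFinite n) ∧ SpSeq.IsBounded E ∧
      ∀ p q : ℤ, Nonempty ((E.page 1 le_rfl).X (p, q) ≅
        (if 0 ≤ p ∧ 0 ≤ q then
          AddCommGrpCat.of (CohTop.H ((CohTop.pull
            (Z.map (hbot.from (op (WithInitial.of (SimplexCategory.mk p.toNat)))))).obj F) q.toNat)
         else AddCommGrpCat.of PUnit.{u + 1})) := by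
  obtain ⟨K, a, ha, hi, hb⟩ := CochainComplex.Plus.modelCategoryQuillen.exists_quasiIso_injective
    ((CochainComplex.singleFunctor (Sh Z) 0).obj ((extB Z).obj F)) 0
  have hfl : ∀ n, FlFib (K.X n).obj := fun n => have := hi n; flFib_of_injective _
  have hcart : Cart K := by
    let I : CochainComplex (TopCat.Sheaf AddCommGrpCat.{u} (Z.obj B0)) ℤ :=
      (CochainComplex.singleFunctor _ 0).obj F
    let e : ((extB Z).mapHomologicalComplex _).obj I ⟶ K :=
      (HomologicalComplex.singleMapHomologicalComplex (extB Z) (ComplexShape.up ℤ) 0).hom.app F ≫ a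
    have : QuasiIso e := inferInstance
    exact cart_of_qis e (cart_extB I)
  refine exists_augmented_spectralSequence (cechBi Z K 0 ⊤) (hZ K 0 hfl hcart ⊤) _ (fun n => ?_) (fun n hn => ?_)
    _ (fun p q => ?_) (fun p q h => ?_)
  · obtain ⟨e⟩ := nonempty_homology_column F K hfl a 0 n
    obtain ⟨pl⟩ : Nonempty ((CohTop.pull (Z.map (hbot.from (op (idx 0))))).obj F ≅ F) := by
      have h0 : (restr Z B0).obj ((extT Z B0).obj F) ≅ F :=
        have := isIso_unit_extT hbot F
        (asIso ((extAdj Z B0).unit.app F)).symm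
      exact ⟨levelIso hbot F B0 ≪≫ h0⟩
    refine ⟨e ≪≫ ((Sheaf.cohomologyFunctor _ n).mapIso pl) ≪≫ eqToIso ?_⟩
    simp
    rfl
  · simp only [not_le.2 hn, if_false]
    exact AddCommGrpCat.isZero_of_subsingleton _
  · obtain ⟨e⟩ := nonempty_homology_column F K hfl a (p + 1) q
    refine ⟨e ≪≫ eqToIso ?_⟩
    simp [idx]
  · rw [if_neg (by omega)]
    exact AddCommGrpCat.isZero_of_subsingleton _

end

end Groth.Agent.DSites.Desc
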