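import Groth.Agent.DSites.Desc.PageOne

/-!
# The spectral sequence of a filtered complex, starting at page one
-/

universe v u

open CategoryTheory CategoryTheory.Limits CategoryTheory.Abelian ComposableArrows

namespace Groth.Agent.DSites.Desc

variable {C : Type u} [Category.{v} C] [Abelian C] (K : EInt ⥤ CochainComplex C ℤ)

/-- The spectral object of a filtered complex. -/
noncomputable abbrev spObj : SpectralObject C EInt :=
  SpObjSS.mapHomological ((HomotopyCategory.spectralObjectMappingCone C).precomp K)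
    (HomotopyCategory.homologyFunctor C (ComplexShape.up ℤ) 0)

/-- Its groups are the cohomology groups of mapping cones. -/
noncomputable def spObjIso {i j : EInt} (h : i ≤ j) (n : ℤ) :
    ((spObj K).H n).obj (mk₁ (homOfLE h)) ≅ (CochainComplex.mappingCone (K.map (homOfLE h))).homology n :=
  (HomotopyCategory.homologyFunctorFactors C (ComplexShape.up ℤ) n).app
    (CochainComplex.mappingCone (K.map (homOfLE h)))

/-- Cohomology of mapping cones of monomorphisms. -/
noncomputable def coneHomologyIso (S : ShortComplex (CochainComplex C ℤ)) (hS : S.ShortExact) (n : ℤ) :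
    (CochainComplex.mappingCone S.f).homology n ≅ S.X₃.homology n :=
  have := CochainComplex.mappingCone.quasiIso_descShortComplex hS
  asIso (HomologicalComplex.homologyMap (CochainComplex.mappingCone.descShortComplex S) n)

/-- The groups attached to a step of the filtration. -/
noncomputable def stepIso (S : ShortComplex (CochainComplex C ℤ)) (hS : S.ShortExact) {i j : EInt} (h : i ≤ j)
    (e₁ : K.obj i ≅ S.X₁) (e₂ : K.obj j ≅ S.X₂) (w : e₁.hom ≫ S.f = K.map (homOfLE h) ≫ e₂.hom) (n : ℤ) :
    ((spObj K).H n).obj (mk₁ (homOfLE h)) ≅ S.X₃.homology n :=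
  spObjIso K h n ≪≫ (HomologicalComplex.homologyFunctor C (ComplexShape.up ℤ) n).mapIso
    ((HomotopyCategory.composableArrowsFunctor C).mapIso
      (ComposableArrows.isoMk₁ (F := mk₁ (K.map (homOfLE h))) (G := mk₁ S.f) e₁ e₂ w.symm)) ≪≫
    coneHomologyIso S hS n

/-- The quotient short complex of a step. -/
noncomputable abbrev quotSc {i j : EInt} (h : i ≤ j) : ShortComplex (CochainComplex C ℤ) :=
  ShortComplex.mk (K.map (homOfLE h)) (cokernel.π (K.map (homOfLE h))) (cokernel.condition _)

lemma quotSc_shortExact {i j : EInt} (h : i ≤ j) [Mono (K.map (homOfLE h))] : (quotSc K h).ShortExact :=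
  ShortComplex.ShortExact.mk (ShortComplex.exact_cokernel _)

variable (hmono : ∀ (i j : EInt) (h : i ≤ j), Mono (K.map (homOfLE h)))

include hmono in
/-- The vanishing conditions for a filtered complex. -/
lemma isColumnBounded_spObj (hfull : ∀ (i j : EInt) (h : i ≤ j), ((1 : ℤ) : EInt) ≤ i → IsIso (K.map (homOfLE h)))
    (hzero : ∀ (j : EInt) (n : ℤ), j ≤ ((-n : ℤ) : EInt) → IsZero ((K.obj j).X n)) :
    IsColumnBounded (spObj K) where
  isZero₁ i j hij n hi := by
    have := hmono i j hij
    have := hfull i j hij hi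
    refine IsZero.of_iso ?_ (stepIso K (quotSc K hij) (quotSc_shortExact K hij) hij (Iso.refl _) (Iso.refl _)
      (by simp) n)
    have : IsZero (cokernel (K.map (homOfLE hij))) := isZero_cokernel_of_epi _
    exact ((HomologicalComplex.homologyFunctor C (ComplexShape.up ℤ) n).map_isZero this)
  isZero₂ i j hij n hj := by
    have := hmono i j hij
    refine IsZero.of_iso ?_ (stepIso K (quotSc K hij) (quotSc_shortExact K hij) hij (Iso.refl _) (Iso.refl _)
      (by simp) n)
    refine (cokernel (K.map (homOfLE hij))).exactAt_iff_isZero_homology n |>.1 ?_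
    refine ShortComplex.exact_of_isZero_X₂ _ ?_
    exact @IsZero.of_epi _ _ _ _ _ ((cokernel.π (K.map (homOfLE hij))).f n)
      ((quotSc_shortExact K hij).map_of_exact (HomologicalComplex.eval C (ComplexShape.up ℤ) n)).epi_g (hzero j n hj)

include hmono in
/-- The spectral sequence of a filtered complex. -/
theorem exists_filtered_spectralSequence
    (hfull : ∀ (i j : EInt) (h : i ≤ j), ((1 : ℤ) : EInt) ≤ i → IsIso (K.map (homOfLE h)))
    (hzero : ∀ (j : EInt) (n : ℤ), j ≤ ((-n : ℤ) : EInt) → IsZero ((K.obj j).X n))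
    (hbot : IsZero (K.obj ⊥)) (H : ℤ → C) (eH : ∀ n, (K.obj ⊤).homology n ≅ H n) (E1 : ℤ → ℤ → C)
    (h1 : ∀ p q : ℤ, 0 ≤ p → 0 ≤ q → Nonempty
      ((cokernel (K.map (homOfLE (show ((-p : ℤ) : EInt) ≤ ((-p + 1 : ℤ) : EInt) by simp)))).homology (p + q) ≅
        E1 p q))
    (h0 : ∀ p q : ℤ, (p < 0 ∨ q < 0) → IsZero (E1 p q)) :
    ∃ (E : CohomologicalSpectralSequence C 1) (a : SpSeq.Abutment E H),
      (∀ n, a.IsFinite n) ∧ SpSeq.IsBounded E ∧
      ∀ p q : ℤ, Nonempty ((E.page 1 le_rfl).X (p, q) ≅ E1 p q) := by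
  let S : ShortComplex (CochainComplex C ℤ) := ShortComplex.mk (K.map (homOfLE (bot_le : (⊥ : EInt) ≤ ⊤)))
    (𝟙 _) (hbot.eq_of_src _ _)
  have hS : S.ShortExact := by
    have : Mono S.f := hmono _ _ _
    have : Epi S.g := inferInstanceAs (Epi (𝟙 (K.obj ⊤)))
    refine ShortComplex.ShortExact.mk ((S.exact_iff_mono (hbot.eq_of_src _ _)).2 ?_)
    exact inferInstanceAs (Mono (𝟙 (K.obj ⊤)))
  refine exists_spectralSequence H
    (fun n => stepIso K S hS (bot_le : (⊥ : EInt) ≤ ⊤) (Iso.refl _) (Iso.refl _) (by simp [S]) n ≪≫ eH n)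
    (isColumnBounded_spObj K hmono hfull hzero) E1 (fun p q hp hq => ?_) h0
  obtain ⟨e₁⟩ := h1 p q hp hq
  have := hmono ((-p : ℤ) : EInt) ((-p + 1 : ℤ) : EInt) (by simp)
  exact ⟨stepIso K (quotSc K _) (quotSc_shortExact K _) _ (Iso.refl _) (Iso.refl _) (by simp) (p + q) ≪≫ e₁⟩

end Groth.Agent.DSites.Desc
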