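import Groth.Agent.SpObjSS.Abut
import Groth.Agent.SpObjSS.Homological
import Mathlib.Algebra.Homology.HomotopyCategory.SpectralObject
import Mathlib.Algebra.Homology.HomotopyCategory.ShortExact

/-!
# Spectral sequences starting at the first page

A spectral object indexed by `EInt` whose groups `H^n(i, j)` vanish for `1 ≤ i` and for `n + j ≤ 0` gives a
first quadrant spectral sequence starting at page one, with `E_1^{p,q} = H^{p+q}(-p, -p+1)`, abutting to
`H^n(⊥, ⊤)`.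
-/

universe v u

open CategoryTheory CategoryTheory.Limits CategoryTheory.Abelian ComposableArrows
open Groth.Agent.SpObjSS (stepMap stepMap_comp imageSubobject_congr imageSubobject_stepMap_congr)

namespace Groth.Agent.DSites.Desc

variable {C : Type u} [Category.{v} C] [Abelian C]

/-- The indices of a cohomological spectral sequence starting at page one. -/
def coreE₁ :
    SpectralObject.SpectralSequenceDataCore EInt (fun r ↦ ComplexShape.up' (⟨r, 1 - r⟩ : ℤ × ℤ)) 1 where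
  deg pq := pq.1 + pq.2
  i₀ r pq hr := (-pq.1 - r + 1 :)
  i₁ pq := (-pq.1 :)
  i₂ pq := (-pq.1 + 1 :)
  i₃ r pq hr := (-pq.1 + r :)
  le₀₁ r pq hr := by simp; lia
  le₁₂ pq := by simp
  le₂₃ r pq hr := by simp; lia
  hc := by rintro r pq _ rfl _; dsimp; lia
  hc₀₂ := by rintro r pq hr rfl _; simp; lia
  hc₁₃ := by rintro r pq hr rfl _; simp
  antitone_i₀ r r' pq hr hrr' := by simp; lia
  monotone_i₃ r r' pq hr hrr' := by simp; lia
  i₀_prev := by
    rintro r r' hr pq rfl _ _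
    dsimp
    congr 1; lia
  i₃_next := by
    rintro r r' hr pq rfl _ _
    dsimp
    congr 1; lia

instance (E : SpectralObject C EInt) : E.HasSpectralSequence coreE₁ where
  isZero_H_obj_mk₁_i₀_le r r' pq hpq n hn hrr' hr := by
    exfalso
    exact hpq _ rfl
  isZero_H_obj_mk₁_i₃_le r r' pq hpq n hn hrr' hr := by
    exfalso
    exact hpq (pq - (r, 1 - r)) (by simp)

instance : coreE₁.HasFirstPageComputation where
  hi₀₁ pq := by simp [coreE₁]
  hi₂₃ pq := by simp [coreE₁]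

variable (X : SpectralObject C EInt) (H : ℤ → C)
  (e : ∀ n, (X.H n).obj (mk₁ (homOfLE (bot_le : (⊥ : EInt) ≤ ⊤))) ≅ H n)

/-- The vanishing conditions. -/
structure IsColumnBounded : Prop where
  isZero₁ (i j : EInt) (hij : i ≤ j) (n : ℤ) (hi : ((1 : ℤ) : EInt) ≤ i) :
    IsZero ((X.H n).obj (mk₁ (homOfLE hij)))
  isZero₂ (i j : EInt) (hij : i ≤ j) (n : ℤ) (hj : j ≤ ((-n : ℤ) : EInt)) :
    IsZero ((X.H n).obj (mk₁ (homOfLE hij)))

/-- The image of a step in the abutment. -/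
noncomputable abbrev img (n : ℤ) (j : EInt) : Subobject (H n) := imageSubobject (stepMap X H e n j)

lemma img_mono (n : ℤ) {i j : EInt} (h : i ≤ j) : img X H e n i ≤ img X H e n j :=
  (imageSubobject_congr (stepMap_comp X H e n h).symm).le.trans (imageSubobject_comp_le _ _)

/-- The graded pieces of the images are terms of the spectral object. -/
theorem nonempty_E_iso_subquot (n : ℤ) (i₀ i₁ i₂ i₃ : EInt) (hl : i₀ ≤ i₁) (hm : i₁ ≤ i₂) (hr : i₂ ≤ i₃)
    (hlow : IsZero ((X.H n).obj (mk₁ (homOfLE (bot_le : ⊥ ≤ i₀)))))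
    (hlow' : IsZero ((X.H (n + 1)).obj (mk₁ (homOfLE (bot_le : ⊥ ≤ i₀)))))
    (hhigh : IsZero ((X.H (n - 1)).obj (mk₁ (homOfLE (le_top : i₃ ≤ ⊤))))) :
    Nonempty (X.E (homOfLE hl) (homOfLE hm) (homOfLE hr) (n - 1) n (n + 1) ≅
      SpSeq.subquot (img X H e n i₂) (img X H e n i₁) (img_mono X H e n hm)) := by
  have hψ : ∀ (j : EInt) (hj : i₀ ≤ j),
      IsIso ((X.H n).map (twoδ₁Toδ₀' ⊥ i₀ j bot_le hj)) := fun j hj => by
    have : Mono ((X.H n).map (twoδ₁Toδ₀' ⊥ i₀ j bot_le hj)) :=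
      (X.exact₂ (homOfLE (bot_le : (⊥ : EInt) ≤ _)) (homOfLE hj) (homOfLE bot_le) rfl n).mono_g
        (hlow.eq_of_src _ _)
    have : Epi ((X.H n).map (twoδ₁Toδ₀' ⊥ i₀ j bot_le hj)) :=
      (X.exact₃ (homOfLE (bot_le : (⊥ : EInt) ≤ _)) (homOfLE hj) (homOfLE bot_le) rfl n (n + 1)).epi_f
        (hlow'.eq_of_tgt _ _)
    exact isIso_of_mono_of_epi _
  let S₁ := X.cokernelSequenceE (homOfLE hl) (homOfLE hm) (homOfLE hr) (homOfLE (hl.trans hm)) rfl (n - 1) n (n + 1)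
  let ψ := (X.H n).map (twoδ₁Toδ₀' ⊥ i₀ i₂ bot_le (hl.trans hm))
  let ψ' := (X.H n).map (twoδ₁Toδ₀' ⊥ i₀ i₁ bot_le hl)
  let a : (X.H n).obj (mk₁ (homOfLE (bot_le : ⊥ ≤ i₁))) ⟶
      (X.H n).obj (mk₁ (homOfLE (bot_le : ⊥ ≤ i₂))) :=
    (X.H n).map (twoδ₂Toδ₁' ⊥ i₁ i₂ bot_le hm)
  let d : (X.H (n - 1)).obj (mk₁ (homOfLE hr)) ⟶
      (X.H n).obj (mk₁ (homOfLE (bot_le : ⊥ ≤ i₂))) :=
    X.δ (homOfLE bot_le) (homOfLE hr) (n - 1) n
  let t : (X.H n).obj (mk₁ (homOfLE (bot_le : ⊥ ≤ i₂))) ⟶ img X H e n i₂ :=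
    factorThruImageSubobject _
  have ht : t ≫ (img X H e n i₂).arrow = stepMap X H e n i₂ := imageSubobject_arrow_comp _
  have htepi : Epi t := inferInstanceAs (Epi (factorThruImageSubobject _))
  let t' : (X.H n).obj (mk₁ (homOfLE (bot_le : ⊥ ≤ i₁))) ⟶ img X H e n i₁ :=
    factorThruImageSubobject _
  have ht' : t' ≫ (img X H e n i₁).arrow = stepMap X H e n i₁ := imageSubobject_arrow_comp _
  have ht'epi : Epi t' := inferInstanceAs (Epi (factorThruImageSubobject _))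
  let le' := (img X H e n i₁).ofLE _ (img_mono X H e n hm)
  have hat : a ≫ t = t' ≫ le' := by
    rw [← cancel_mono (img X H e n i₂).arrow]
    simp only [Category.assoc, le', Subobject.ofLE_arrow, ht, ht', a, stepMap_comp]
  have hd : d ≫ stepMap X H e n i₂ = 0 := by
    have hnat := X.δ_naturality (homOfLE (bot_le : (⊥ : EInt) ≤ i₂)) (homOfLE hr)
      (homOfLE bot_le) (homOfLE (le_top : i₂ ≤ ⊤)) (𝟙 _)
      (twoδ₂Toδ₁' i₂ i₃ ⊤ hr le_top) (n - 1) n rfl
    rw [CategoryTheory.Functor.map_id, Category.comp_id] at hnat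
    simp only [d]
    rw [← hnat, stepMap, Category.assoc]
    erw [reassoc_of% (X.zero₁ (homOfLE bot_le) (homOfLE le_top) (homOfLE bot_le) rfl (n - 1) n (by lia))]
    rw [zero_comp, comp_zero]
  let g : (X.H n).obj (mk₁ (homOfLE (bot_le : ⊥ ≤ i₂))) ⟶
      cokernel le' := t ≫ cokernel.π le'
  have hag : a ≫ g = 0 := by
    simp only [g, ← Category.assoc, hat]
    rw [Category.assoc, cokernel.condition, comp_zero]
  have hdg : d ≫ g = 0 := by
    have : d ≫ t = 0 := by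
      rw [← cancel_mono (img X H e n i₂).arrow, Category.assoc, ht, zero_comp]
      exact hd
    simp only [g, ← Category.assoc, this, zero_comp]
  let S₂ := ShortComplex.mk (biprod.desc a d) g (by ext <;> simp [hag, hdg])
  have hS₂ : S₂.Exact := by
    rw [ShortComplex.exact_iff_exact_up_to_refinements]
    intro A x hx
    have hx' : (x ≫ t) ≫ cokernel.π le' = 0 := (Category.assoc _ _ _).trans hx
    obtain ⟨A₁, π₁, _, y, hy⟩ :=
      (ShortComplex.exact_cokernel le').exact_up_to_refinements (x ≫ t) hx'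
    obtain ⟨A₂, π₂, _, z, hz⟩ := surjective_up_to_refinements_of_epi t' y
    dsimp at y hy
    let w := π₂ ≫ π₁ ≫ x - z ≫ a
    have hw : w ≫ (X.H n).map (twoδ₂Toδ₁' ⊥ i₂ ⊤ bot_le le_top) = 0 := by
      rw [← cancel_mono (e n).hom, zero_comp, Category.assoc]
      show w ≫ stepMap X H e n _ = 0
      rw [← ht, ← Category.assoc]
      suffices w ≫ t = 0 by rw [this, zero_comp]
      simp only [w, Preadditive.sub_comp, Category.assoc, hat, hy]
      rw [reassoc_of% hz, sub_self]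
    obtain ⟨A₃, π₃, _, u, hu⟩ :=
      (X.exact₁ (homOfLE (bot_le : (⊥ : EInt) ≤ i₂)) (homOfLE le_top)
        (homOfLE bot_le) rfl (n - 1) n (by lia)).exact_up_to_refinements w hw
    have hepi : Epi ((X.H (n - 1)).map (twoδ₂Toδ₁' i₂ i₃ ⊤ hr le_top)) :=
      (X.exact₂ (homOfLE hr) (homOfLE le_top) (homOfLE le_top) rfl (n - 1)).epi_f
        (hhigh.eq_of_tgt _ _)
    obtain ⟨A₄, π₄, _, v, hv⟩ := surjective_up_to_refinements_of_epi
      ((X.H (n - 1)).map (twoδ₂Toδ₁' i₂ i₃ ⊤ hr le_top)) u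
    have hnat := X.δ_naturality (homOfLE (bot_le : (⊥ : EInt) ≤ i₂)) (homOfLE hr)
      (homOfLE bot_le) (homOfLE (le_top : i₂ ≤ ⊤)) (𝟙 _)
      (twoδ₂Toδ₁' i₂ i₃ ⊤ hr le_top) (n - 1) n rfl
    rw [CategoryTheory.Functor.map_id, Category.comp_id] at hnat
    refine ⟨A₄, π₄ ≫ π₃ ≫ π₂ ≫ π₁, inferInstance,
      biprod.lift (π₄ ≫ π₃ ≫ z) v, ?_⟩
    have key : π₄ ≫ π₃ ≫ w = v ≫ d := by
      exact (congrArg (π₄ ≫ ·) hu).trans ((Category.assoc _ _ _).symm.trans
        ((congrArg (· ≫ _) hv).trans ((Category.assoc _ _ _).trans (congrArg (v ≫ ·) hnat))))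
    dsimp [S₂]
    rw [biprod.lift_desc, ← key]
    simp [w]
  have hψ'iso : IsIso ψ' := hψ _ hl
  have hψiso : IsIso ψ := hψ _ (hl.trans hm)
  have c₁ : a ≫ ψ = ψ' ≫ (X.H n).map (twoδ₂Toδ₁' i₀ i₁ i₂ hl hm) := by
    simp only [a, ψ, ψ', ← Functor.map_comp]
    congr 1
  have c₂ : d ≫ ψ = X.δ (homOfLE (hl.trans hm)) (homOfLE hr) (n - 1) n := by
    have h := X.δ_naturality (homOfLE (bot_le : (⊥ : EInt) ≤ i₂)) (homOfLE hr)
      (homOfLE (hl.trans hm)) (homOfLE hr)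
      (twoδ₁Toδ₀' ⊥ i₀ i₂ bot_le (hl.trans hm)) (𝟙 _) (n - 1) n rfl
    rw [CategoryTheory.Functor.map_id, Category.id_comp] at h
    exact h.symm
  let g₁ : (X.H n).obj (mk₁ (homOfLE (hl.trans hm))) ⟶
      X.E (homOfLE hl) (homOfLE hm) (homOfLE hr) (n - 1) n (n + 1) :=
    X.toCycles (homOfLE hl) (homOfLE hm) (homOfLE (hl.trans hm)) rfl n ≫
      X.πE (homOfLE hl) (homOfLE hm) (homOfLE hr) (n - 1) n (n + 1)
  have hz : biprod.desc ((X.H n).map (twoδ₂Toδ₁' i₀ i₁ i₂ hl hm))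
      (X.δ (homOfLE (hl.trans hm)) (homOfLE hr) (n - 1) n) ≫ g₁ = 0 := S₁.zero
  have z₁ : (X.H n).map (twoδ₂Toδ₁' i₀ i₁ i₂ hl hm) ≫ g₁ = 0 := by
    simpa using biprod.inl ≫= hz
  have z₂ : X.δ (homOfLE (hl.trans hm)) (homOfLE hr) (n - 1) n ≫ g₁ = 0 := by
    simpa using biprod.inr ≫= hz
  let S₂' := ShortComplex.mk (biprod.desc a d) (ψ ≫ g₁) (by
    ext
    · rw [biprod.inl_desc_assoc, comp_zero, reassoc_of% c₁, z₁, comp_zero]
    · rw [biprod.inr_desc_assoc, comp_zero, reassoc_of% c₂, z₂])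
  have hS₂' : S₂'.Exact := by
    refine ShortComplex.exact_of_iso (S₁ := S₁) (S₂ := S₂')
      (ShortComplex.isoMk (biprod.mapIso (asIso ψ').symm (Iso.refl _)) (asIso ψ).symm (Iso.refl _) ?_ ?_)
      (X.cokernelSequenceE_exact (homOfLE hl) (homOfLE hm) (homOfLE hr)
        (homOfLE (hl.trans hm)) rfl (n - 1) n (n + 1))
    · show (biprod.mapIso (asIso ψ').symm (Iso.refl _)).hom ≫ biprod.desc a d =
        biprod.desc ((X.H n).map (twoδ₂Toδ₁' i₀ i₁ i₂ hl hm))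
          (X.δ (homOfLE (hl.trans hm)) (homOfLE hr) (n - 1) n) ≫ inv ψ
      apply biprod.hom_ext'
      · simp only [biprod.mapIso_hom, Iso.symm_hom, asIso_inv, biprod.inl_map_assoc, biprod.inl_desc,
          biprod.inl_desc_assoc]
        rw [IsIso.inv_comp_eq, ← reassoc_of% c₁, IsIso.hom_inv_id, Category.comp_id]
      · simp only [biprod.mapIso_hom, Iso.refl_hom, biprod.inr_map_assoc, biprod.inr_desc,
          biprod.inr_desc_assoc]
        rw [Category.id_comp, ← c₂, Category.assoc, IsIso.hom_inv_id, Category.comp_id]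
    · show inv ψ ≫ ψ ≫ g₁ = g₁ ≫ 𝟙 _
      rw [IsIso.inv_hom_id_assoc, Category.comp_id]
  have : Epi S₂'.g := by
    have : Epi g₁ := by dsimp [g₁]; infer_instance
    dsimp [S₂']; exact epi_comp _ _
  have : Epi S₂.g := by dsimp [S₂, g]; exact epi_comp _ _
  exact ⟨(hS₂'.gIsCokernel).coconePointUniqueUpToIso hS₂.gIsCokernel⟩

variable {X}

/-- The filtration on the abutment. -/
noncomputable def fil (n p : ℤ) : Subobject (H n) := img X H e n ((-p + 1 : ℤ) : EInt)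

lemma fil_antitone (n : ℤ) : Antitone (fil H e n) := fun p p' h =>
  img_mono X H e n (by simp; lia)

variable (hX : IsColumnBounded X)
include hX

lemma fil_eq_top (n p : ℤ) (hp : p ≤ 0) : fil H e n p = ⊤ := by
  have hz : IsZero ((X.H n).obj (mk₁ (homOfLE (le_top : ((-p + 1 : ℤ) : EInt) ≤ ⊤)))) :=
    hX.isZero₁ _ _ _ _ (by simp; lia)
  have h₁ : Epi ((X.H n).map (twoδ₂Toδ₁' ⊥ ((-p + 1 : ℤ) : EInt) ⊤ bot_le le_top)) :=
    (X.exact₂ (homOfLE (bot_le : (⊥ : EInt) ≤ _)) (homOfLE le_top) (homOfLE bot_le) rfl n).epi_f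
      (hz.eq_of_tgt _ _)
  have : Epi (stepMap X H e n ((-p + 1 : ℤ) : EInt)) := epi_comp _ _
  have : Epi (fil H e n p).arrow :=
    epi_of_epi_fac (imageSubobject_arrow_comp (stepMap X H e n ((-p + 1 : ℤ) : EInt)))
  have := isIso_of_mono_of_epi (fil H e n p).arrow
  exact Subobject.eq_top_of_isIso_arrow _

lemma fil_eq_bot (n p : ℤ) (hp : n + 1 ≤ p) : fil H e n p = ⊥ :=
  (imageSubobject_congr ((hX.isZero₂ ⊥ ((-p + 1 : ℤ) : EInt) bot_le n (by simp; lia)).eq_of_src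
    (stepMap X H e n _) 0)).trans imageSubobject_zero

omit hX in
/-- A page from which a position is stationary. -/
def rk (pq : ℤ × ℤ) : ℤ := max 1 (max (pq.1 + 2) (pq.2 + 2))

lemma isZero_page (r : ℤ) (hr : 1 ≤ r) (pq : ℤ × ℤ) (h : pq.1 < 0 ∨ pq.2 < 0) :
    IsZero (((X.spectralSequence coreE₁).page r hr).X pq) := by
  refine X.isZero_spectralSequence_page_X_of_isZero_H coreE₁ r hr pq
    (pq.1 + pq.2) rfl ((-pq.1 : ℤ) : EInt) ((-pq.1 + 1 : ℤ) : EInt) rfl rfl ?_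
  rcases h with h | h
  · exact hX.isZero₁ _ _ _ _ (by simp; lia)
  · exact hX.isZero₂ _ _ _ _ (by simp; lia)

lemma stationaryAt (pq : ℤ × ℤ) : SpSeq.StationaryAt (X.spectralSequence coreE₁) pq (rk pq) :=
  ⟨le_max_left _ _, fun r h₀ hr => by
    have h₁ : pq.1 + 2 ≤ r := le_trans (le_trans (le_max_left _ _) (le_max_right _ _)) hr
    have h₂ : pq.2 + 2 ≤ r := le_trans (le_trans (le_max_right _ _) (le_max_right _ _)) hr
    refine ⟨(isZero_page hX r h₀ _ (Or.inl ?_)).eq_of_src _ _,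
      (isZero_page hX r h₀ _ (Or.inr ?_)).eq_of_tgt _ _⟩
    · simp; lia
    · simp; lia⟩

omit hX in
lemma subquot_congr {A : C} {Z Z' B B' : Subobject A} (hZ : Z = Z') (hB : B = B') (h : B ≤ Z) (h' : B' ≤ Z') :
    Nonempty (SpSeq.subquot Z B h ≅ SpSeq.subquot Z' B' h') := by
  subst hZ hB
  exact ⟨Iso.refl _⟩

/-- The abutment. -/
noncomputable def abutment : SpSeq.Abutment (X.spectralSequence coreE₁) H where
  fil := fil H e
  anti := fil_antitone H e
  rk := rk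
  stat := stationaryAt hX
  β pq :=
    X.spectralSequencePageXIso coreE₁ (rk pq) (le_max_left _ _) pq
        ((-pq.1 - rk pq + 1 : ℤ) : EInt) ((-pq.1 : ℤ) : EInt) ((-pq.1 + 1 : ℤ) : EInt)
        ((-pq.1 + rk pq : ℤ) : EInt) rfl rfl rfl rfl
        (pq.1 + pq.2 - 1) (pq.1 + pq.2) (pq.1 + pq.2 + 1) rfl ≪≫
      (nonempty_E_iso_subquot X H e (pq.1 + pq.2) _ _ _ _ _ _ _
        (hX.isZero₂ _ _ _ _ (by simp [rk]; lia)) (hX.isZero₂ _ _ _ _ (by simp [rk]; lia))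
        (hX.isZero₁ _ _ _ _ (by simp [rk]; lia))).some ≪≫
      (subquot_congr (Z' := fil H e (pq.1 + pq.2) pq.1) (B' := fil H e (pq.1 + pq.2) (pq.1 + 1))
        rfl (imageSubobject_stepMap_congr X H e _ (by congr 1; lia)) _ (fil_antitone H e _ (Int.le_add_one le_rfl))).some

include e in
/-- A column bounded spectral object gives a spectral sequence starting at page one. -/
theorem exists_spectralSequence (E1 : ℤ → ℤ → C)
    (h1 : ∀ p q : ℤ, 0 ≤ p → 0 ≤ q → Nonempty ((X.H (p + q)).obj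
      (mk₁ (homOfLE (show ((-p : ℤ) : EInt) ≤ ((-p + 1 : ℤ) : EInt) by simp))) ≅ E1 p q))
    (h0 : ∀ p q : ℤ, (p < 0 ∨ q < 0) → IsZero (E1 p q)) :
    ∃ (E : CohomologicalSpectralSequence C 1) (a : SpSeq.Abutment E H),
      (∀ n, a.IsFinite n) ∧ SpSeq.IsBounded E ∧
      ∀ p q : ℤ, Nonempty ((E.page 1 le_rfl).X (p, q) ≅ E1 p q) := by
  refine ⟨_, abutment H e hX, fun n => ⟨⟨0, fil_eq_top H e hX n 0 le_rfl⟩, ⟨n + 1, fil_eq_bot H e hX n _ le_rfl⟩⟩,
    fun n => ?_, fun p q => ?_⟩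
  · refine (Set.finite_Icc 0 n).subset fun p hp => ?_
    simp only [Set.mem_Icc]
    by_contra h
    exact hp (isZero_page hX 1 le_rfl (p, n - p) (by simp; lia))
  · by_cases h : 0 ≤ p ∧ 0 ≤ q
    · obtain ⟨e₁⟩ := h1 p q h.1 h.2
      exact ⟨X.spectralSequenceFirstPageXIso coreE₁ (p, q) _ _ rfl rfl _ rfl ≪≫ e₁⟩
    · exact ⟨(isZero_page hX 1 le_rfl (p, q) (by simp only []; lia)).iso (h0 p q (by lia))⟩

end Groth.Agent.DSites.Desc
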